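import Groth.Agent.Pic13.H951.PresentX
import Groth.Agent.S1647
import Groth.Agent.S1642
import Groth.Agent.VarietyB.GGStalk
import Groth.Agent.Ega2.GlobGenCrit

/-!
# Castelnuovo–Mumford regularity on closed subschemes of `P^n_k`

For `i : X ⟶ P^n_k` a closed immersion:
* `isMRegular_iff_push`: `F` is `m`-regular iff `i_* F` is;
* `isMRegular_ge`: `m`-regular implies `n'`-regular for `n' ≥ m`;
* `isGloballyGenerated_twistOn`: if `F` is `m`-regular then `F(n')` is globally generated for `n' ≥ m`;
* `vanish`: `H^q(X, F(t)) = 0` for `q ≥ 1`, `t ≥ m - q`.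
-/

set_option autoImplicit false
universe u
open CategoryTheory CategoryTheory.Limits AlgebraicGeometry Opposite TopologicalSpace

namespace K244.Reg

open Groth.Agent Groth.Agent.Pic13.H951.PresentX

variable (k : Type u) [Field k] {n : ℕ} {X : Scheme.{u}} (i : X ⟶ CohB1.ProjSpace n k) [IsClosedImmersion i]

/-- `H^q(X, F(d)) ≃+ H^q(P^n, (i_* F)(d))`. -/
noncomputable def hhTwist (F : X.Modules) (d : ℤ) (q : ℕ) :
    Coh.HH X (_root_.Pic13.twistOn k i F d) q ≃+
      Coh.HH (CohB1.ProjSpace n k) (CohB1.tensorMod ((Scheme.Modules.pushforward i).obj F) (Twist.twistProjSpace n k d)) q :=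
  ((CurvesC.CurveNum.hhPush i (_root_.Pic13.twistOn k i F d) q).trans
    (Fga.PicMon.hmapEquiv k (CohB1.ProjSpace n k) (pushTwist k i F d) q).toAddEquiv).symm.symm

theorem isMRegular_of_push {F : X.Modules} (hF : Coh.IsQCoh F) {m : ℤ}
    (h : Curv2.IsMRegular k n ((Scheme.Modules.pushforward i).obj F) m) : _root_.Pic13.IsMRegular k i F m := by
  intro q hq
  have := S1642.subsingleton_of_isMRegular (CohqA.AffPush.isQCoh_push i F hF) h q hq
  exact (hhTwist k i F (m - q) q).subsingleton

theorem isMRegular_iff_push {F : X.Modules} (hF : Coh.IsQCoh F) {m : ℤ} :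
    _root_.Pic13.IsMRegular k i F m ↔ Curv2.IsMRegular k n ((Scheme.Modules.pushforward i).obj F) m :=
  ⟨isMRegular_push k i, isMRegular_of_push k i hF⟩

theorem isMRegular_ge {F : X.Modules} (hF : Coh.IsCoh F) {m m' : ℤ} (h : _root_.Pic13.IsMRegular k i F m)
    (hm : m ≤ m') : _root_.Pic13.IsMRegular k i F m' := by
  induction m', hm using Int.leInduction with
  | base => exact h
  | succ a _ ih =>
    exact isMRegular_of_push k i hF.1 (S1642.result k n _ (isCoh_push k i hF) a (isMRegular_push k i ih))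

theorem isGloballyGenerated_twistOn {F : X.Modules} (hF : Coh.IsCoh F) {m : ℤ} (h : _root_.Pic13.IsMRegular k i F m) :
    Curv2.IsGloballyGenerated (_root_.Pic13.twistOn k i F m) := by
  have h1 := S1647.result k n _ (isCoh_push k i hF) m (isMRegular_push k i h)
  have h2 := VarietyB.GGStalk.isGloballyGenerated_pullback i _ h1
  exact Ega2.GlobGenCrit.isGloballyGenerated_of_iso
    ((Scheme.Modules.pullback i).mapIso (pushTwist k i F m).symm ≪≫ counitIso k i _) h2

/-- `H^q(X, F(t)) = 0` for `q ≥ 1` and `t ≥ m - q` if `F` is `m`-regular. -/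
theorem vanish {F : X.Modules} (hF : Coh.IsCoh F) {m : ℤ} (h : _root_.Pic13.IsMRegular k i F m) (q : ℕ) (hq : 1 ≤ q)
    (t : ℤ) (ht : m - q ≤ t) : Subsingleton (Coh.HH X (_root_.Pic13.twistOn k i F t) q) := by
  have h1 := isMRegular_ge k i hF h (m' := t + q) (by omega) q hq
  rwa [add_sub_cancel_right] at h1

end K244.Reg
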