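import Groth.Agent.Pic13.H951.Present
import Groth.Agent.Fga.MumInputs

/-!
# Finiteness of `Hom` between coherent modules on `P^n` over a finite field

* `finite_hom`: for `k` finite and `M`, `N` coherent on `P^n_k` the set `M ⟶ N` is finite.
* `finite_classes`: over a finite field the `m`-regular coherent modules with Hilbert polynomial in a finite set form
  finitely many isomorphism classes.
-/

set_option autoImplicit false
universe u
open CategoryTheory CategoryTheory.Limits AlgebraicGeometry Opposite TopologicalSpace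

namespace K244.HomFin

open Groth.Agent Groth.Agent.Sga67 Groth.Agent.CurvesB Groth.Agent.Sga67.SerreVB

variable (k : Type u) [Field k] (n : ℕ)

theorem isProper_P : IsProper (CohB1.ProjSpace n k ↘ Spec (CommRingCat.of k)) := VarietyB.EulerBinom.isProper_over k n

theorem isLN_P : IsLocallyNoetherian (CohB1.ProjSpace n k) := by
  have := isProper_P k n
  exact LocallyOfFiniteType.isLocallyNoetherian (CohB1.ProjSpace n k ↘ (Spec (CommRingCat.of k)))

theorem finite_sections [Finite k] {M : (CohB1.ProjSpace n k).Modules} (hM : Coh.IsCoh M) : Finite Γ(M, ⊤) := by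
  have := isProper_P k n
  have := isLN_P k n
  have h1 : Module.Finite k (Coh.HH (CohB1.ProjSpace n k) M 0) := S0002.result k _ _ hM 0
  have h2 : Finite (Coh.HH (CohB1.ProjSpace n k) M 0) := Module.finite_of_finite k
  exact Finite.of_equiv _ (HZero.equivAdd M).toEquiv

theorem finite_free_hom [Finite k] {M : (CohB1.ProjSpace n k).Modules} (hM : Coh.IsCoh M) (N : ℕ) :
    Finite (FlatMod.freeMod (CohB1.ProjSpace n k) N ⟶ M) := by
  have := finite_sections k n hM
  exact Finite.of_injective (fun φ => Dcoh.FinLocFree.freeSec φ)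
    (fun φ ψ h => Dcoh.FinLocFree.hom_ext_free fun i => congrFun h i)

theorem isZero_of_tw {M : (CohB1.ProjSpace n k).Modules} (a : ℤ) (h : IsZero ((tw n k a).obj M)) : IsZero M := by
  obtain ⟨e₁⟩ := nonempty_tw_tw n k a (-a) M
  obtain ⟨e₂⟩ := nonempty_tw_zero n k M
  rw [add_neg_cancel] at e₁
  have h1 : IsZero ((tw n k (-a)).obj ((tw n k a).obj M)) := by
    have hpc : PreservesFiniteLimits (tw n k (-a)) ∧ PreservesFiniteColimits (tw n k (-a)) :=
      ((Functor.exact_tfae (tw n k (-a))).out 0 3).1 fun S hS =>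
        CohqB.SerTw.shortExact_tw (isInvertible_twist n k (-a)) hS
    have := hpc.1
    exact (tw n k (-a)).map_isZero h
  exact h1.of_iso (e₁ ≪≫ e₂).symm

theorem tw_faithful (a : ℤ) {M N : (CohB1.ProjSpace n k).Modules} (φ ψ : M ⟶ N)
    (h : (tw n k a).map φ = (tw n k a).map ψ) : φ = ψ := by
  have hpc : PreservesFiniteLimits (tw n k a) ∧ PreservesFiniteColimits (tw n k a) :=
    ((Functor.exact_tfae (tw n k a)).out 0 3).1 fun S hS =>
      CohqB.SerTw.shortExact_tw (isInvertible_twist n k a) hS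
  obtain ⟨hp1, hp2⟩ := hpc
  have hadd : (tw n k a).Additive := Functor.additive_of_preserves_binary_products _
  rw [← sub_eq_zero]
  set w := φ - ψ with hw
  have h0 : (tw n k a).map w = 0 := by rw [hw, Functor.map_sub, h, sub_self]
  have h1 : (tw n k a).map (Abelian.factorThruImage w) ≫ (tw n k a).map (Abelian.image.ι w) = 0 := by
    rw [← Functor.map_comp, Abelian.image.fac, h0]
  have h2 : Mono ((tw n k a).map (Abelian.image.ι w)) := inferInstance
  have h3 : Epi ((tw n k a).map (Abelian.factorThruImage w)) := inferInstance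
  have h4 : (tw n k a).map (Abelian.image.ι w) = 0 := by
    rw [← cancel_epi ((tw n k a).map (Abelian.factorThruImage w)), h1, comp_zero]
  have h5 : IsZero ((tw n k a).obj (Abelian.image w)) := IsZero.of_mono_eq_zero _ h4
  have h6 := isZero_of_tw k n a h5
  rw [← Abelian.image.fac w, h6.eq_of_src (Abelian.image.ι w) 0, comp_zero]

/-- Over a finite field, `Hom` between coherent modules on `P^n` is finite. -/
theorem finite_hom [Finite k] {M N : (CohB1.ProjSpace n k).Modules} (hM : Coh.IsCoh M) (hN : Coh.IsCoh N) :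
    Finite (M ⟶ N) := by
  have := isProper_P k n
  have := isLN_P k n
  obtain ⟨r₀, hr⟩ := Fga.MumInputs.serre k n M hM
  have hreg : Curv2.IsMRegular k n M (r₀ + n) := fun q hq1 hq2 => hr (r₀ + n - q) (by omega) q hq1
  have hgg := CMReg.isGloballyGenerated hM.1 (m := r₀ + n) hreg (r₀ + n) le_rfl
  have hfin : Module.Finite k (Coh.HH (CohB1.ProjSpace n k) ((tw n k (r₀ + n)).obj M) 0) :=
    S0002.result k _ _ (isCoh_tw n k hM (r₀ + n)) 0
  obtain ⟨p, hp⟩ := Pic13.H951.Present.exists_epi_of_le (k := k) hgg hfin le_rfl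
  have hf := finite_free_hom k n (isCoh_tw n k hN (r₀ + n)) (Module.finrank k
    (Coh.HH (CohB1.ProjSpace n k) ((tw n k (r₀ + n)).obj M) 0))
  let T : (M ⟶ N) → (FlatMod.freeMod (CohB1.ProjSpace n k) (Module.finrank k
    (Coh.HH (CohB1.ProjSpace n k) ((tw n k (r₀ + n)).obj M) 0)) ⟶ (tw n k (r₀ + n)).obj N) :=
    fun φ => p ≫ (tw n k (r₀ + n)).map φ
  have hT : Function.Injective T := fun φ ψ h => by
    have h' : p ≫ (tw n k (r₀ + n)).map φ = p ≫ (tw n k (r₀ + n)).map ψ := h
    exact tw_faithful k n (r₀ + n) φ ψ ((cancel_epi p).mp h')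
  exact @Finite.of_injective _ _ hf T hT

/-- **Finiteness of isomorphism classes over a finite field**: an infinite family of `m`-regular coherent modules with
Hilbert polynomials in a finite set contains two isomorphic members. -/
theorem exists_iso [Finite k] (m : ℤ) (s : Finset (Polynomial ℚ)) {ι : Type*} [Infinite ι]
    (F : ι → (CohB1.ProjSpace n k).Modules) (hF : ∀ j, Coh.IsCoh (F j)) (hreg : ∀ j, Curv2.IsMRegular k n (F j) m)
    (hs : ∀ j, ∃ φ ∈ s, ∀ d : ℤ, (FGA.eulerCharLE k (CohB1.ProjSpace n k)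
          (CohB1.tensorMod (F j) (Twist.twistProjSpace n k d)) n : ℚ) = φ.eval (d : ℚ)) :
    ∃ j j' : ι, j ≠ j' ∧ Nonempty (F j ≅ F j') := by
  classical
  choose E E' hE hE' H using Pic13.H951.Present.exists_presentation k n m
  choose φ hφ hχ using hs
  choose u hu using fun j => H (φ j) (F j) (hF j) (hreg j) (hχ j)
  have hfin : Finite (Σ φ : s, (E φ.1 ⟶ E' φ.1)) := by
    have := fun φ : s => finite_hom k n (hE φ.1) (hE' φ.1)
    infer_instance
  obtain ⟨j, j', hne, he⟩ := Finite.exists_ne_map_eq_of_infinite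
    (fun j => (⟨⟨φ j, hφ j⟩, u j⟩ : Σ φ : s, (E φ.1 ⟶ E' φ.1)))
  refine ⟨j, j', hne, ?_⟩
  obtain ⟨e⟩ := hu j
  obtain ⟨e'⟩ := hu j'
  have key : ∀ (x y : Σ φ : s, (E φ.1 ⟶ E' φ.1)), x = y → Nonempty (cokernel x.2 ≅ cokernel y.2) := by
    rintro x y rfl
    exact ⟨Iso.refl _⟩
  obtain ⟨e₀⟩ := key _ _ he
  exact ⟨e.symm ≪≫ e₀ ≪≫ e'⟩

end K244.HomFin
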