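import Groth.Agent.Pic13.K244.FinDesc
import Groth.Agent.Pic13.K244.HomFin
import Groth.Agent.Pic13.K244.Reg
import Groth.Agent.S4277
import Groth.Agent.S4281
import Groth.Agent.S4286
import Groth.Agent.CohqB.PullTwist471
import Groth.Agent.Picfga.ChiBC
import Mathlib.Algebra.Field.ULift

/-!
# Numerically trivial invertible modules on projective schemes over algebraic closures of finite fields are torsion
-/

set_option autoImplicit false
universe u
open CategoryTheory CategoryTheory.Limits AlgebraicGeometry Opposite TopologicalSpace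

namespace K244.TorsProj

open Groth.Agent Groth.Agent.CohqB.ProjBC Groth.Agent.Grpsch.PicGrp Groth.Agent.Pic13.H951.PresentX

section Twist

variable {K k : Type u} [Field K] [Field k] {n : ℕ} {X X₁ : Scheme.{u}} {i : X ⟶ CohB1.ProjSpace n k}
  {i₁ : X₁ ⟶ CohB1.ProjSpace n K} {g : X ⟶ X₁} {φ : K →+* k}

/-- `g^*(M(d)) ≅ (g^*M)(d)`. -/
noncomputable def twistBC (h : g ≫ i₁ = i ≫ pmap φ n) (M : X₁.Modules) (d : ℤ) :
    (Scheme.Modules.pullback g).obj (_root_.Pic13.twistOn K i₁ M d) ≅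
      _root_.Pic13.twistOn k i ((Scheme.Modules.pullback g).obj M) d :=
  CohqB.PullTwist471.pullTensorIsoRight g
    (hasBases (Fdesc.LocGen.isInvertible_pullback i₁ (Sga67.SerreVB.isInvertible_twist n K d))) M ≪≫
  Ega2.Tens.mapTIso (Iso.refl _) ((Scheme.Modules.pullbackComp g i₁).app _ ≪≫
    (Scheme.Modules.pullbackCongr h).app _ ≪≫ ((Scheme.Modules.pullbackComp i (pmap φ n)).app _).symm ≪≫
    (Scheme.Modules.pullback i).mapIso (Ega3A.PChart.pullTwistIso φ n d))

end Twist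

/-- Vanishing of cohomology descends along field extensions. -/
theorem subsingleton_of_pullback {K k : Type u} [Field K] [Field k] {X X₁ : Scheme.{u}}
    [X.Over (Spec (CommRingCat.of k))] [X₁.Over (Spec (CommRingCat.of K))] [CompactSpace X₁] [QuasiSeparatedSpace X₁]
    {g : X ⟶ X₁} (φ : K →+* k)
    (hpb : IsPullback g (X ↘ Spec (CommRingCat.of k)) (X₁ ↘ Spec (CommRingCat.of K)) (Spec.map (CommRingCat.ofHom φ)))
    (M : X₁.Modules) (hM : Coh.IsQCoh M) (q : ℕ)
    (h : Subsingleton (Coh.HH X ((Scheme.Modules.pullback g).obj M) q)) : Subsingleton (Coh.HH X₁ M q) := by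
  let _ : Algebra K k := φ.toAlgebra
  obtain ⟨e⟩ := S0034.result K k X₁ X g hpb M q
  have h1 : Subsingleton (TensorProduct K k (Coh.HH X₁ M q)) := e.toEquiv.subsingleton
  exact (Module.FaithfullyFlat.subsingleton_tensorProduct_iff_right K k).mp h1

/-- A power of the pullback. -/
theorem nonempty_iso_of_push {K : Type u} [Field K] {n : ℕ} {X : Scheme.{u}} (i : X ⟶ CohB1.ProjSpace n K)
    [IsClosedImmersion i] {M M' : X.Modules}
    (e : (Scheme.Modules.pushforward i).obj M ≅ (Scheme.Modules.pushforward i).obj M') : Nonempty (M ≅ M') :=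
  ⟨(counitIso K i M).symm ≪≫ (Scheme.Modules.pullback i).mapIso e ≪≫ counitIso K i M'⟩

/-- Every element of `k` is algebraic over a subfield if it is a root of some `X^(p^n) - X`. -/
theorem isAlgebraic_of_pow {C k : Type*} [Field C] [Field k] [Algebra C k] (p : ℕ) [Fact (Nat.Prime p)]
    (halg : ∀ x : k, ∃ n : ℕ, 0 < n ∧ x ^ (p ^ n) = x) : Algebra.IsAlgebraic C k := by
  refine ⟨fun x => ?_⟩
  obtain ⟨n, hn, hx⟩ := halg x
  refine ⟨Polynomial.X ^ (p ^ n) - Polynomial.X, ?_, by simp [hx]⟩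
  have h1 : 1 < p ^ n := Nat.one_lt_pow hn.ne' (Fact.out : Nat.Prime p).one_lt
  intro h0
  have h2 := congrArg (fun q : Polynomial C => q.coeff (p ^ n)) h0
  simp only [Polynomial.coeff_sub, Polynomial.coeff_X_pow, if_true, Polynomial.coeff_zero] at h2
  rw [Polynomial.coeff_X_of_ne_one (by omega), sub_zero] at h2
  exact one_ne_zero h2

/-- **Numerically trivial invertible modules on projective schemes over `k = \bar F_p` are torsion.** -/
theorem exists_tensorPow_iso (p : ℕ) [Fact (Nat.Prime p)] (k : Type u) [Field k] [IsAlgClosed k] [CharP k p]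
    (halg : ∀ x : k, ∃ n : ℕ, 0 < n ∧ x ^ (p ^ n) = x)
    {n : ℕ} {X : Scheme.{u}} [X.Over (Spec (CommRingCat.of k))] (i : X ⟶ CohB1.ProjSpace n k) [IsClosedImmersion i]
    (hi : i ≫ CohB1.ProjSpace.toSpec n k = X ↘ Spec (CommRingCat.of k))
    (L : X.Modules) (hL : PicF.IsInvertible L) (hnum : _root_.Pic13.IsNumEquivZero k X L) :
    ∃ d : ℕ, 0 < d ∧ Nonempty (CohB1.tensorPow L d ≅ Coh.structureModule X) := by
  -- the models over finite fields
  let _ : Algebra (ZMod p) k := ZMod.algebra k p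
  let _ : Algebra (ULift.{u} (ZMod p)) k :=
    ((algebraMap (ZMod p) k).comp (ULift.ringEquiv (R := ZMod p)).toRingHom).toAlgebra
  have hRalg : Algebra.IsAlgebraic (ULift.{u} (ZMod p)) k := isAlgebraic_of_pow p halg
  obtain ⟨C, _, hC, φ₀, X₀, i₀, g₀, hi₀, hpb₀⟩ := FinDesc.exists_closed_model (R := ULift.{u} (ZMod p)) i
  let _ : Algebra C k := φ₀.toAlgebra
  have hCalg : Algebra.IsAlgebraic C k := isAlgebraic_of_pow p halg
  obtain ⟨K, _, hK, φ, X₁, i₁, g, L₁, hi₁, hpb, hL₁, ⟨eL⟩⟩ := FinDesc.exists_module_model (C := C) hpb₀ hL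
  let _ : X₁.Over (Spec (CommRingCat.of K)) := ⟨i₁ ≫ CohB1.ProjSpace.toSpec n K⟩
  have hPK : IsProper (CohB1.ProjSpace.toSpec n K) := VarietyB.EulerBinom.isProper_over K n
  have hPk : IsProper (CohB1.ProjSpace.toSpec n k) := VarietyB.EulerBinom.isProper_over k n
  have hX₁ : IsProper (X₁ ↘ Spec (CommRingCat.of K)) := inferInstanceAs (IsProper (i₁ ≫ _))
  have hX : IsProper (X ↘ Spec (CommRingCat.of k)) := by rw [← hi]; infer_instance
  have hc : CompactSpace X₁ := (quasiCompact_iff_compactSpace (X₁ ↘ (Spec (CommRingCat.of K)))).mp inferInstance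
  have hqs : QuasiSeparatedSpace X₁ :=
    (quasiSeparated_iff_quasiSeparatedSpace (X₁ ↘ (Spec (CommRingCat.of K)))).mp inferInstance
  have hpbS : IsPullback g (X ↘ Spec (CommRingCat.of k)) (X₁ ↘ Spec (CommRingCat.of K))
      (Spec.map (CommRingCat.ofHom φ)) := by
    have h1 := hpb.paste_vert (isPullback_pmap φ n)
    rw [hi] at h1
    exact h1
  -- boundedness
  have hτ := S4277.result k X L hL hnum
  have hb := S4281.result k X
  obtain ⟨⟨m, hm⟩, s, hs⟩ := S4286.result k n X i hi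
    (fun M : X.Modules => PicF.IsInvertible M ∧ _root_.Pic13.IsTauEquivZero k X M)
    (fun M hM => CycB.DegCurve.isCoh_of_isInvertible hM.1) hb
  have hP : ∀ j : ℕ, PicF.IsInvertible (CohB1.tensorPow L j) ∧
      _root_.Pic13.IsTauEquivZero k X (CohB1.tensorPow L j) := fun j => by
    have h1 := Fdesc.LocGen.isInvertible_tensorPow hL j
    refine ⟨h1, ?_⟩
    rw [Pic13.H138.AlgEquiv.isTauEquivZero_iff_mem h1, mk_tensorPow hL]
    exact pow_mem ((Pic13.H138.AlgEquiv.isTauEquivZero_iff_mem hL).mp hτ) j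
  have hinv : ∀ j : ℕ, PicF.IsInvertible (CohB1.tensorPow L₁ j) := fun j =>
    Fdesc.LocGen.isInvertible_tensorPow hL₁ j
  have hpow : ∀ j : ℕ, Nonempty ((Scheme.Modules.pullback g).obj (CohB1.tensorPow L₁ j) ≅ CohB1.tensorPow L j) := by
    intro j
    have h1 : PicF.IsInvertible ((Scheme.Modules.pullback g).obj (CohB1.tensorPow L₁ j)) :=
      Fdesc.LocGen.isInvertible_pullback g (hinv j)
    rw [← mk_eq_iff h1 (hP j).1, mk_tensorPow hL]
    have h2 : mk _ h1 = pull g (mk L₁ hL₁ ^ j) := by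
      rw [← mk_tensorPow hL₁]; exact (pull_mk g (hinv j)).symm
    rw [h2, map_pow, pull_mk]
    congr 1
    exact (mk_eq_iff _ _).mpr ⟨eL⟩
  have hcoh : ∀ j : ℕ, Coh.IsCoh (CohB1.tensorPow L₁ j) := fun j =>
    CycB.DegCurve.isCoh_of_isInvertible (hinv j)
  have htw : ∀ (j : ℕ) (d : ℤ), Nonempty ((Scheme.Modules.pullback g).obj
      (_root_.Pic13.twistOn K i₁ (CohB1.tensorPow L₁ j) d) ≅ _root_.Pic13.twistOn k i (CohB1.tensorPow L j) d) := by
    intro j d
    obtain ⟨e⟩ := hpow j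
    exact ⟨twistBC hpb.w (CohB1.tensorPow L₁ j) d ≪≫ Ega2.Tens.mapTIso e (Iso.refl _)⟩
  have htq : ∀ (j : ℕ) (d : ℤ), Coh.IsQCoh (_root_.Pic13.twistOn K i₁ (CohB1.tensorPow L₁ j) d) := fun j d =>
    Ega2.TensGen.isQCoh_tensor (hcoh j).1
      (Fdesc.LocGen.isInvertible_pullback i₁ (Sga67.SerreVB.isInvertible_twist n K d))
  obtain ⟨j, j', hne, ⟨e⟩⟩ := HomFin.exists_iso K n m s (ι := ℕ)
    (fun j => (Scheme.Modules.pushforward i₁).obj (CohB1.tensorPow L₁ j)) (fun j => isCoh_push K i₁ (hcoh j))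
    (fun j => by
      refine isMRegular_push K i₁ fun q hq => ?_
      obtain ⟨e⟩ := htw j (m - q)
      have h1 := (hm _ (hP j)) q hq
      exact subsingleton_of_pullback φ hpbS _ (htq j (m - q)) q (Fga.HShift.subsingleton_of_iso e.symm q h1))
    (fun j => by
      obtain ⟨ψ, hψ, h1⟩ := hs _ (hP j)
      refine ⟨ψ, hψ, fun d => ?_⟩
      obtain ⟨e⟩ := htw j d
      rw [euler_push K i₁ rfl (CohB1.tensorPow L₁ j) d n,
        ← Picfga.ChiBC.eulerCharLE_pullback K X₁ k X g _ hpbS _ (htq j d) n,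
        Fga.PicMon.euler_iso k X e n]
      exact h1 d)
  obtain ⟨e'⟩ := nonempty_iso_of_push i₁ e
  obtain ⟨a⟩ := hpow j
  obtain ⟨b⟩ := hpow j'
  have h1 : mk L hL ^ j = mk L hL ^ j' := by
    rw [← mk_tensorPow hL, ← mk_tensorPow hL, mk_eq_iff]
    exact ⟨a.symm ≪≫ (Scheme.Modules.pullback g).mapIso e' ≪≫ b⟩
  have key : ∀ a b : ℕ, a < b → mk L hL ^ a = mk L hL ^ b →
      ∃ d : ℕ, 0 < d ∧ Nonempty (CohB1.tensorPow L d ≅ Coh.structureModule X) := by
    intro a b hab h
    refine ⟨b - a, by omega, ?_⟩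
    rw [← mk_eq_one_iff (Fdesc.LocGen.isInvertible_tensorPow hL (b - a)), mk_tensorPow hL]
    have h2 : mk L hL ^ b = mk L hL ^ a * mk L hL ^ (b - a) := by rw [← pow_add]; congr 1; omega
    rw [h2] at h
    exact (mul_eq_left.mp h.symm)
  rcases Nat.lt_or_gt_of_ne hne with h | h
  · exact key j j' h h1
  · exact key j' j h h1.symm

end K244.TorsProj
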