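import Groth.Agent.Pic13.K244.PicCls

/-!
# Maps to the Picard scheme and the dual map

`X`, `A` pointed `S`-schemes with universally `Γ(O)` trivial, `P`, `Q` their Picard schemes. If every pointed map
`X ⟶ Q = Pic A` is constant, then every pointed map `A ⟶ P = Pic X` is constant.
-/

set_option autoImplicit false
universe u

open CategoryTheory CategoryTheory.Limits MonoidalCategory CartesianMonoidalCategory AlgebraicGeometry Opposite
open Groth.Agent.Ega3A.PicDiv Groth.Agent.Ega3A.PicEtSh Groth.Agent.Grpsch.PicGrp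
open Groth.Agent.Ega3A.PicLocBase Groth.Agent.Fga.RigGrp Groth.Agent.Pic13.H965.RelGrp

namespace K244.AlbCore

variable {S : Scheme.{u}} {X A P Q : Over S}

/-- A point is a section. -/
lemma sec (x : 𝟙_ (Over S) ⟶ X) : x.left ≫ X.hom = 𝟙 S := Over.w x

/-- Exchange of the factors. -/
noncomputable def sw (X A : Over S) : Pic (PicF.XT X.hom A) →* Pic (PicF.XT A.hom X) :=
  pull (pullbackSymmetry A.hom X.hom).hom

lemma sw_injective (X A : Over S) : Function.Injective (sw X A) := by
  intro c d h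
  have h2 : ∀ e : Pic (PicF.XT X.hom A), pull (pullbackSymmetry A.hom X.hom).inv (sw X A e) = e := by
    intro e
    rw [sw, ← pull_comp, Iso.inv_hom_id, pull_id]
  rw [← h2 c, h, h2]

lemma map_symm (x : 𝟙_ (Over S) ⟶ X) : PicF.XTmap A.hom x ≫ (pullbackSymmetry A.hom X.hom).hom =
    pullback.fst A.hom (𝟙_ (Over S)).hom ≫ PicF.secT X.hom x.left (sec x) A := by
  apply pullback.hom_ext
  · rw [Category.assoc, Category.assoc, pullbackSymmetry_hom_comp_fst, secT_fst]
    refine (XTmap_XTproj A.hom x).trans ?_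
    rw [← Category.assoc (pullback.fst A.hom _) A.hom, pullback.condition, Category.assoc]
    exact congrArg _ (Category.id_comp _).symm
  · rw [Category.assoc, Category.assoc, pullbackSymmetry_hom_comp_snd, XTmap_fst]
    refine (Category.comp_id _).symm.trans (congrArg _ ?_)
    exact (secT_XTproj X.hom x.left (sec x) A).symm

lemma sec_symm (a : 𝟙_ (Over S) ⟶ A) : PicF.secT A.hom a.left (sec a) X ≫ (pullbackSymmetry A.hom X.hom).hom =
    pullback.lift (f := X.hom) (g := (𝟙_ (Over S)).hom) (𝟙 _) X.hom (by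
      rw [Category.id_comp]; exact (Category.comp_id _).symm) ≫ PicF.XTmap X.hom a := by
  apply pullback.hom_ext
  · rw [Category.assoc, Category.assoc, pullbackSymmetry_hom_comp_fst, XTmap_fst, pullback.lift_fst]
    exact secT_XTproj A.hom a.left (sec a) X
  · rw [Category.assoc, Category.assoc, pullbackSymmetry_hom_comp_snd, secT_fst]
    refine Eq.trans ?_ (congrArg _ (XTmap_XTproj X.hom a)).symm
    erw [pullback.lift_snd_assoc]

variable {φ : ∀ T : Over S, PicF.Cl (PicF.XT X.hom T) → (T ⟶ P)} {ψ : ∀ T : Over S, PicF.Cl (PicF.XT A.hom T) → (T ⟶ Q)}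

theorem eq_const (hφ : PicRel.IsRelPic X.hom P φ) (hψ : PicRel.IsRelPic A.hom Q ψ)
    (hFX : ∀ T : Over S, Function.Bijective (PicF.XTproj X.hom T).appTop)
    (hFA : ∀ T : Over S, Function.Bijective (PicF.XTproj A.hom T).appTop)
    (x : 𝟙_ (Over S) ⟶ X) (a : 𝟙_ (Over S) ⟶ A)
    (H : ∀ d : X ⟶ Q, x ≫ d = cm ψ (1 : Pic (PicF.XT A.hom (𝟙_ (Over S)))) →
      d = cm ψ (1 : Pic (PicF.XT A.hom X)))
    (i : A ⟶ P) (hi : a ≫ i = cm φ (1 : Pic (PicF.XT X.hom (𝟙_ (Over S))))) :
    i = cm φ (1 : Pic (PicF.XT X.hom A)) := by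
  obtain ⟨c, hc, rfl⟩ := PicCls.exists_rg (sec x) hφ hFX i
  have h1 : pull (PicF.XTmap A.hom x) (sw X A c) = 1 := by
    rw [sw, ← pull_comp, map_symm, pull_comp, (mem_Rg X.hom x.left (sec x)).1 hc, map_one]
  have h2 : cm ψ (sw X A c) = cm ψ (1 : Pic (PicF.XT A.hom X)) := by
    apply H
    rw [← cm_pu hψ]
    exact congrArg (cm ψ) h1
  have h3 : pull (PicF.XTmap X.hom a) c = 1 := by
    refine PicCls.eq_of_cm (sec x) hφ hFX (pull_mem _ hc) (one_mem _) ?_
    exact (cm_pu hφ a c).trans hi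
  have h4 : pull (PicF.secT A.hom a.left (sec a) X) (sw X A c) = 1 := by
    rw [sw, ← pull_comp, sec_symm, pull_comp, h3, map_one]
  have h5 := PicCls.eq_base_of_cm (sec a) hψ hFA h2
  rw [h4, map_one] at h5
  have h6 : c = 1 := sw_injective X A (h5.trans (map_one _).symm)
  rw [h6]

end K244.AlbCore
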