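import Groth.Agent.S2539
import Groth.Agent.VarietyA.RegSmoothSch
import Groth.Agent.S0558
import Groth.Agent.CurvesC.RegNormal
import Groth.Prelude.Def_Pi1
import Mathlib.FieldTheory.IsAlgClosed.AlgebraicClosure

/-!
# Normal schemes and extensions of the base field
-/

set_option autoImplicit false
universe u

open CategoryTheory CategoryTheory.Limits AlgebraicGeometry

namespace K244.NormExt

variable {k : Type u} [Field k]

theorem isNormalScheme_of_smooth {X : Scheme.{u}} (q : X ⟶ Spec (CommRingCat.of k)) [Smooth q] :
    Pi1.IsNormalScheme X := fun x =>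
  have : IsRegularLocalRing (X.presheaf.stalk x) :=
    Groth.Agent.VarietyA.RegSmoothSch.isRegularLocalRing_stalk_of_mem_smoothLocus q x
      (by rw [q.smoothLocus_eq_top]; trivial)
  ⟨Groth.Agent.S0558.result _, Groth.Agent.CurvesC.RegNormal.isIntegrallyClosed _⟩

/-- normality after passing to an algebraic closure implies normality after algebraic extensions -/
theorem normal_of_isAlgebraic {X : Scheme.{u}} (f : X ⟶ Spec (CommRingCat.of k))
    (h : Pi1.IsNormalScheme (pullback f (Spec.map (CommRingCat.ofHom (algebraMap k (AlgebraicClosure k))))))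
    (k' : Type u) [Field k'] [Algebra k k'] [Algebra.IsAlgebraic k k'] :
    Pi1.IsNormalScheme (pullback f (Spec.map (CommRingCat.ofHom (algebraMap k k')))) := by
  let j : k' →ₐ[k] AlgebraicClosure k := IsAlgClosed.lift
  let s' : Spec (CommRingCat.of (AlgebraicClosure k)) ⟶ Spec (CommRingCat.of k') :=
    Spec.map (CommRingCat.ofHom j.toRingHom)
  have hs : s' ≫ Spec.map (CommRingCat.ofHom (algebraMap k k')) =
      Spec.map (CommRingCat.ofHom (algebraMap k (AlgebraicClosure k))) := by
    rw [← Spec.map_comp, ← CommRingCat.ofHom_comp]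
    congr 2
    ext x
    exact j.commutes x
  let m : pullback f (Spec.map (CommRingCat.ofHom (algebraMap k (AlgebraicClosure k)))) ⟶
      pullback f (Spec.map (CommRingCat.ofHom (algebraMap k k'))) :=
    pullback.lift (pullback.fst _ _) (pullback.snd _ _ ≫ s') (by
      rw [pullback.condition, Category.assoc, hs])
  have hm1 : m ≫ pullback.fst _ _ = pullback.fst _ _ := pullback.lift_fst _ _ _
  have hm2 : m ≫ pullback.snd _ _ = pullback.snd _ _ ≫ s' := pullback.lift_snd _ _ _
  have hpb : IsPullback m (pullback.snd _ _) (pullback.snd f (Spec.map (CommRingCat.ofHom (algebraMap k k')))) s' := by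
    refine IsPullback.of_right (h₁₂ := pullback.fst _ _) (v₁₃ := f)
      (h₂₂ := Spec.map (CommRingCat.ofHom (algebraMap k k'))) ?_ hm2 (IsPullback.of_hasPullback _ _)
    rw [hm1, hs]
    exact IsPullback.of_hasPullback _ _
  have : Flat s' := by
    rw [AlgebraicGeometry.Flat.SpecMap_iff]
    algebraize [j.toRingHom]
    exact inferInstanceAs (Module.Flat k' (AlgebraicClosure k))
  have : Surjective s' := by
    refine ⟨fun y => ⟨IsLocalRing.closedPoint _, ?_⟩⟩
    exact Subsingleton.elim (α := PrimeSpectrum k') _ _
  have h1 : Flat m := MorphismProperty.of_isPullback hpb.flip inferInstance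
  have h2 : Surjective m := MorphismProperty.of_isPullback hpb.flip inferInstance
  exact Groth.Agent.S2539.result m h

theorem normal_of_closure {X : Scheme.{u}} (f : X ⟶ Spec (CommRingCat.of k))
    (h : Pi1.IsNormalScheme (pullback f (Spec.map (CommRingCat.ofHom (algebraMap k (AlgebraicClosure k)))))) :
    Pi1.IsNormalScheme X := by
  have h1 : Flat (Spec.map (CommRingCat.ofHom (algebraMap k (AlgebraicClosure k)))) := by
    rw [AlgebraicGeometry.Flat.SpecMap_iff, CommRingCat.hom_ofHom, RingHom.flat_algebraMap_iff]
    infer_instance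
  have h3 : Surjective (Spec.map (CommRingCat.ofHom (algebraMap k (AlgebraicClosure k)))) :=
    ⟨fun y => ⟨IsLocalRing.closedPoint _, Subsingleton.elim (α := PrimeSpectrum k) _ _⟩⟩
  exact Groth.Agent.S2539.result (pullback.fst f (Spec.map (CommRingCat.ofHom (algebraMap k (AlgebraicClosure k))))) h

theorem isReduced {X : Scheme.{u}} (h : Pi1.IsNormalScheme X) : IsReduced X := by
  have : ∀ x : X, _root_.IsReduced (X.presheaf.stalk x) := fun x => by
    have := (h x).1
    infer_instance
  exact isReduced_of_isReduced_stalk X

end K244.NormExt
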