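import Groth.Agent.Pic13.K244.NumBCT

/-!
# Numerically trivial modules become τ-trivial over the algebraic closure
-/

set_option autoImplicit false
universe u
open CategoryTheory CategoryTheory.Limits AlgebraicGeometry TopologicalSpace

namespace K244.TauKb

open Groth.Agent

/-- For `X` proper over a field `k` and `L` numerically trivial, the pullback of `L` to `X ×_k k̄` is τ-trivial. -/
theorem isTauEquivZero_pullback (k : Type u) [Field k] {X : Scheme.{u}} [X.Over (Spec (CommRingCat.of k))]
    [IsProper (X ↘ Spec (CommRingCat.of k))] {X₁ : Scheme.{u}} [X₁.Over (Spec (CommRingCat.of (AlgebraicClosure k)))]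
    {g : X₁ ⟶ X} (hpb : IsPullback g (X₁ ↘ Spec (CommRingCat.of (AlgebraicClosure k))) (X ↘ Spec (CommRingCat.of k))
      (Spec.map (CommRingCat.ofHom (algebraMap k (AlgebraicClosure k)))))
    {L : X.Modules} (hL : PicF.IsInvertible L) (hnum : _root_.Pic13.IsNumEquivZero k X L) :
    _root_.Pic13.IsTauEquivZero (AlgebraicClosure k) X₁ ((Scheme.Modules.pullback g).obj L) := by
  have hX₁ : IsProper (X₁ ↘ Spec (CommRingCat.of (AlgebraicClosure k))) :=
    MorphismProperty.of_isPullback hpb inferInstance
  have hs := NumBC.isIntegralHom_spec_algebraicClosure k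
  exact S4277.result _ X₁ _ (Fdesc.LocGen.isInvertible_pullback g hL)
    (NumBC.isNumEquivZero_pullback_of_integral hpb hL hnum)

end K244.TauKb
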