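import Groth.Agent.Pic13.K244.PicPointed
import Groth.Agent.Pic13.K244.NormExt
import Groth.Agent.Pic13.K244.TauKb
import Groth.Agent.S4289
import Groth.Agent.AbVar.K514.Const
import Groth.Agent.AbVar.K514.GenAlg2

/-!
# Albanese dimension zero: numerically trivial classes are torsion
-/

set_option autoImplicit false
universe u

open CategoryTheory CategoryTheory.Limits MonoidalCategory CartesianMonoidalCategory MonObj GrpObj AlgebraicGeometry
open Groth.Agent.Ega3A.PicDiv Groth.Agent.Ega3A.PicEtSh Groth.Agent.Grpsch.PicGrp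
open Groth.Agent.Ega3A.PicLocBase Groth.Agent.Fga.RigGrp Groth.Agent.Pic13.H965.RelGrp
open Groth.Agent.Pic13.H138.AlgEquiv

namespace K244.AlbFin

open K244.AlbZero

variable {k : Type u} [Field k]

/-- The Picard scheme of a pointed geometrically normal proper scheme, with its group structure. -/
theorem exists_pic_mul (X : Over (Spec (CommRingCat.of k))) [IsProper X.hom]
    (hX : Function.Bijective (X.hom.appTop).hom) (x₀ : 𝟙_ (Over (Spec (CommRingCat.of k))) ⟶ X)
    (hn : Pi1.IsNormalScheme (pullback X.hom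
      (Spec.map (CommRingCat.ofHom (algebraMap k (AlgebraicClosure k)))))) :
    ∃ (Q : Over (Spec (CommRingCat.of k))) (_ : GrpObj Q)
        (ψ : ∀ T : Over (Spec (CommRingCat.of k)), PicF.Cl (PicF.XT X.hom T) → (T ⟶ Q)),
        PicRel.IsRelPic X.hom Q ψ ∧
        (∀ (T : Over (Spec (CommRingCat.of k))) (c d : Pic (PicF.XT X.hom T)), cm ψ (c * d) = cm ψ c * cm ψ d) ∧
        (∀ T, cm ψ (1 : Pic (PicF.XT X.hom T)) = 1) ∧ IsCommMonObj Q ∧ LocallyOfFiniteType Q.hom ∧
        IsSeparated Q.hom ∧ HasPicVar Q := by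
  let _ : X.left.Over (Spec (CommRingCat.of k)) := ⟨X.hom⟩
  have hp : IsProper (X.left ↘ Spec (CommRingCat.of k)) := ‹IsProper X.hom›
  obtain ⟨P, ⟨φ, hφ⟩, hs, hl⟩ := Groth.Agent.S4289.result k X.left
  have hφ' : PicRel.IsRelPic X.hom P φ := hφ
  obtain ⟨G, h1, h2, h3⟩ := exists_grpObj hφ'
  exact ⟨P, G, φ, hφ', h1, h2, h3, hl, hs, PicPointed.hasPicVar_of_pointed hφ' hX x₀ hn⟩

/-- The Picard scheme of a pointed geometrically normal proper scheme. -/
theorem exists_pic (X : Over (Spec (CommRingCat.of k))) [IsProper X.hom]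
    (hX : Function.Bijective (X.hom.appTop).hom) (x₀ : 𝟙_ (Over (Spec (CommRingCat.of k))) ⟶ X)
    (hn : Pi1.IsNormalScheme (pullback X.hom
      (Spec.map (CommRingCat.ofHom (algebraMap k (AlgebraicClosure k)))))) :
    ∃ (Q : Over (Spec (CommRingCat.of k))) (_ : GrpObj Q)
        (ψ : ∀ T : Over (Spec (CommRingCat.of k)), PicF.Cl (PicF.XT X.hom T) → (T ⟶ Q)),
        PicRel.IsRelPic X.hom Q ψ ∧
        (∀ T, cm ψ (1 : Pic (PicF.XT X.hom T)) = toUnit T ≫ η[Q]) ∧ HasPicVar Q := by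
  obtain ⟨Q, G, ψ, h, -, h1, -, -, -, hP⟩ := exists_pic_mul X hX x₀ hn
  exact ⟨Q, G, ψ, h, fun T => (h1 T).trans rfl, hP⟩

theorem normal_smooth (A : Over (Spec (CommRingCat.of k))) [Smooth A.hom] :
    Pi1.IsNormalScheme (pullback A.hom
      (Spec.map (CommRingCat.ofHom (algebraMap k (AlgebraicClosure k))))) :=
  NormExt.isNormalScheme_of_smooth (pullback.snd A.hom _)

theorem main (X : Scheme.{u}) [X.Over (Spec (CommRingCat.of k))] [IsProper (X ↘ Spec (CommRingCat.of k))]
    (hgn : Pi1.IsNormalScheme (pullback (X ↘ Spec (CommRingCat.of k))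
      (Spec.map (CommRingCat.ofHom (algebraMap k (AlgebraicClosure k))))))
    (h0 : Module.finrank k (Coh.HH X (Coh.structureModule X) 0) = 1)
    (x₀ : 𝟙_ (Over (Spec (CommRingCat.of k))) ⟶ Over.mk (X ↘ Spec (CommRingCat.of k)))
    (halb0 : ∀ (B : Over (Spec (CommRingCat.of k))) [GrpObj B] [IsProper B.hom] [GeometricallyReduced B.hom]
      [ConnectedSpace ↥B.left] (g : Over.mk (X ↘ Spec (CommRingCat.of k)) ⟶ B), x₀ ≫ g = η[B] →
        g = toUnit (Over.mk (X ↘ Spec (CommRingCat.of k))) ≫ η[B])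
    (L : X.Modules) (hL : PicF.IsInvertible L) (hnum : _root_.Pic13.IsNumEquivZero k X L) :
    ∃ d : ℕ, 0 < d ∧ Nonempty (CohB1.tensorPow L d ≅ Coh.structureModule X) := by
  let f := X ↘ Spec (CommRingCat.of k)
  let XX : Over (Spec (CommRingCat.of k)) := Over.mk f
  have hpX : IsProper XX.hom := ‹IsProper (X ↘ Spec (CommRingCat.of k))›
  have hX : Function.Bijective (XX.hom.appTop).hom := K514.Const.bijective_appTop_of_finrank k X h0
  have hne : Nonempty X := ⟨x₀.left (IsLocalRing.closedPoint k)⟩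
  have hne' : Nonempty XX.left := hne
  have hconn : PreconnectedSpace XX.left := K514.GenAlg2.preconnectedSpace XX.hom hX
  have hred : IsReduced XX.left := NormExt.isReduced (NormExt.normal_of_closure f hgn)
  obtain ⟨P, hG, φ, hφ, hφ1, hP⟩ := exists_pic XX hX x₀ hgn
  have hφ1' : cm φ (1 : Pic (PicF.XT XX.hom (𝟙_ (Over (Spec (CommRingCat.of k)))))) = η[P] := by
    rw [hφ1]
    have : toUnit (𝟙_ (Over (Spec (CommRingCat.of k)))) = 𝟙 _ := toUnit_unique _ _
    rw [this, Category.id_comp]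
  let K := AlgebraicClosure k
  let s : Spec (CommRingCat.of K) ⟶ Spec (CommRingCat.of k) := Spec.map (CommRingCat.ofHom (algebraMap k K))
  let _ := AlgComp.ovK f K
  have hnumK := TauKb.isTauEquivZero_pullback k (X := X) (X₁ := pullback f s) (g := pullback.fst f s)
    (IsPullback.of_hasPullback f s) hL hnum
  have hL1 := Groth.Agent.Fdesc.LocGen.isInvertible_pullback (pullback.fst f s) hL
  rw [isTauEquivZero_iff_mem hL1, mem_tau0_iff] at hnumK
  obtain ⟨n, hn, hnK⟩ := hnumK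
  rw [mem_alg0_iff, ← pull_mk (pullback.fst f s) hL, ← map_pow] at hnK
  set b : Pic X := mk L hL ^ n with hb
  have h1 := AlgComp.mem_of_algEq f hφ K b hnK
  rw [hφ1'] at h1
  have h2 := eq_one hX hφ hφ1' hP (fun A _ _ _ _ =>
    exists_pic A (Groth.Agent.Grpsch.CubeData.bijective_appTop A.hom) η[A] (normal_smooth A)) x₀ halb0 _ h1
  refine ⟨n, hn, ?_⟩
  rw [← mk_eq_one_iff (Groth.Agent.Fdesc.LocGen.isInvertible_tensorPow hL n), mk_tensorPow hL, ← hb]
  have h3 := congrArg (pull (pullback.lift (𝟙 X) f (by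
    change 𝟙 X ≫ f = f ≫ 𝟙 _
    rw [Category.id_comp, Category.comp_id]) : X ⟶ PicF.XT f (𝟙_ (Over (Spec (CommRingCat.of k)))))) h2
  rw [map_one] at h3
  rw [← h3]
  refine Eq.trans ?_ (pull_comp _ _ _)
  rw [pullback.lift_fst, pull_id]

end K244.AlbFin
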