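import Groth.Agent.Pic13.H965.RelGrp
import Groth.Agent.Pic13.H138.AlgEquiv

/-!
# Classes algebraically equivalent to zero over an extension lie in the identity component
-/

set_option autoImplicit false
universe u

open CategoryTheory CategoryTheory.Limits MonoidalCategory CartesianMonoidalCategory AlgebraicGeometry Opposite
open Groth.Agent.Ega3A.PicDiv Groth.Agent.Ega3A.PicEtSh Groth.Agent.Grpsch.PicGrp
open Groth.Agent.Ega3A.PicLocBase Groth.Agent.Fga.RigGrp Groth.Agent.Pic13.H965.RelGrp
open Groth.Agent.Pic13.H138.AlgEquiv Groth.Agent.Pic13.H138.Slice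

namespace K244.AlgComp

variable {k : Type u} [Field k] {X : Scheme.{u}} (f : X ⟶ Spec (CommRingCat.of k))
  {P : Over (Spec (CommRingCat.of k))} {φ : ∀ T : Over (Spec (CommRingCat.of k)), PicF.Cl (PicF.XT f T) → (T ⟶ P)}

/-- `X ×_k K` over `K`. -/
@[reducible] noncomputable def ovK (K : Type u) [Field K] [Algebra k K] :
    (pullback f (Spec.map (CommRingCat.ofHom (algebraMap k K)))).Over (Spec (CommRingCat.of K)) :=
  ⟨pullback.snd _ _⟩

/-- `X ×_k T = X_K ×_K T` for a `K`-scheme `T`. -/
noncomputable def toProd {S' S T : Scheme.{u}} {X : Scheme.{u}} (f : X ⟶ S) (s : S' ⟶ S) (q : T ⟶ S') :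
    pullback f (q ≫ s) ⟶ pullback (pullback.snd f s) q :=
  pullback.lift (pullback.lift (pullback.fst f (q ≫ s)) (pullback.snd f (q ≫ s) ≫ q)
    (by rw [pullback.condition, Category.assoc])) (pullback.snd f (q ≫ s)) (pullback.lift_snd _ _ _)

@[reassoc (attr := simp)]
lemma toProd_snd {S' S T : Scheme.{u}} {X : Scheme.{u}} (f : X ⟶ S) (s : S' ⟶ S) (q : T ⟶ S') :
    toProd f s q ≫ pullback.snd _ _ = pullback.snd _ _ := pullback.lift_snd _ _ _

@[reassoc (attr := simp)]
lemma toProd_fst_fst {S' S T : Scheme.{u}} {X : Scheme.{u}} (f : X ⟶ S) (s : S' ⟶ S) (q : T ⟶ S') :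
    toProd f s q ≫ pullback.fst _ _ ≫ pullback.fst _ _ = pullback.fst _ _ := by
  rw [toProd, pullback.lift_fst_assoc, pullback.lift_fst]

@[reassoc (attr := simp)]
lemma toProd_fst_snd {S' S T : Scheme.{u}} {X : Scheme.{u}} (f : X ⟶ S) (s : S' ⟶ S) (q : T ⟶ S') :
    toProd f s q ≫ pullback.fst _ _ ≫ pullback.snd _ _ = pullback.snd _ _ ≫ q := by
  rw [toProd, pullback.lift_fst_assoc, pullback.lift_snd]

theorem mem_of_algEq (hφ : PicRel.IsRelPic f P φ) (K : Type u) [Field K] [Algebra k K] (b : Pic X)
    (h : @AlgEq K _ (pullback f (Spec.map (CommRingCat.ofHom (algebraMap k K)))) (ovK f K)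
      (pull (pullback.fst _ _) b) 1) :
    (cm φ (pull (pullback.fst f (𝟙_ (Over (Spec (CommRingCat.of k)))).hom) b)).left (IsLocalRing.closedPoint k) ∈
      connectedComponent ((cm φ (1 : Pic (PicF.XT f (𝟙_ (Over (Spec (CommRingCat.of k))))))).left
        (IsLocalRing.closedPoint k)) := by
  let s := Spec.map (CommRingCat.ofHom (algebraMap k K))
  let _ := ovK f K
  obtain ⟨T, q, hT, -, -, c, t, t₀, ht, ht₀, e, e₀⟩ := h
  let TT : Over (Spec (CommRingCat.of k)) := Over.mk (q ≫ s)
  let c' : Pic (PicF.XT f TT) := pull (toProd f s q) c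
  have key : ∀ (r : Spec (CommRingCat.of K) ⟶ T) (hr : r ≫ q = 𝟙 _) (b' : Pic X)
      (_ : fibCl K (pullback f s) q r hr c = pull (pullback.fst _ _) b'),
      (cm φ (pull (pullback.fst f (𝟙_ (Over (Spec (CommRingCat.of k)))).hom) b')).left (IsLocalRing.closedPoint k) =
        (cm φ c').left (r (IsLocalRing.closedPoint K)) := by
    intro r hr b' hb'
    let g : Over.mk s ⟶ TT := Over.homMk r (by
      change r ≫ q ≫ s = s
      rw [reassoc_of% hr])
    have h1 : pu f g c' = pull (pullback.fst f s) b' := by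
      rw [← hb', fibCl]
      refine (pull_comp (PicF.XTmap f g) (toProd f s q) c).symm.trans ?_
      refine congrArg (fun w => pull w c) ?_
      apply pullback.hom_ext
      · rw [Category.assoc]
        refine Eq.trans ?_ (pullback.lift_fst _ _ _).symm
        apply pullback.hom_ext
        · rw [Category.assoc, Category.assoc, toProd_fst_fst]
          exact (XTmap_fst f g).trans (Category.id_comp _).symm
        · rw [Category.assoc, Category.assoc, toProd_fst_snd]
          refine Eq.trans ?_ (Category.id_comp _).symm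
          refine (XTmap_XTproj_assoc f g q).trans ?_
          change pullback.snd f s ≫ r ≫ q = _
          rw [hr, Category.comp_id]
      · rw [Category.assoc, toProd_snd]
        refine (XTmap_XTproj f g).trans ?_
        exact (pullback.lift_snd _ _ _).symm
    have h2 : pu f (toUnit (Over.mk s)) (pull (pullback.fst f (𝟙_ (Over (Spec (CommRingCat.of k)))).hom) b') =
        pull (pullback.fst f s) b' := by
      rw [pu, ← pull_comp]
      exact congrArg (fun w => pull w b') (XTmap_fst f _)
    have h3 : g ≫ cm φ c' = toUnit (Over.mk s) ≫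
        cm φ (pull (pullback.fst f (𝟙_ (Over (Spec (CommRingCat.of k)))).hom) b') := by
      rw [← cm_pu hφ, ← cm_pu hφ, h1]
      exact congrArg _ h2.symm
    have h4 : (g ≫ cm φ c').left (IsLocalRing.closedPoint K) = (toUnit (Over.mk s) ≫
        cm φ (pull (pullback.fst f (𝟙_ (Over (Spec (CommRingCat.of k)))).hom) b')).left
          (IsLocalRing.closedPoint K) := by rw [h3]
    have h5 : (toUnit (Over.mk s)).left (IsLocalRing.closedPoint K) =
        (IsLocalRing.closedPoint k : Spec (CommRingCat.of k)) :=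
      Subsingleton.elim (α := ↥(Spec (CommRingCat.of k))) _ _
    have h6 : (cm φ c').left (r (IsLocalRing.closedPoint K)) =
        (cm φ (pull (pullback.fst f (𝟙_ (Over (Spec (CommRingCat.of k)))).hom) b')).left
          ((toUnit (Over.mk s)).left (IsLocalRing.closedPoint K)) := h4
    rw [h6, h5]
  have hpre : _root_.IsPreconnected (Set.range (cm φ c').left) := by
    have : PreconnectedSpace TT.left := inferInstanceAs (PreconnectedSpace T)
    exact isPreconnected_range (cm φ c').left.continuous
  have k1 := key t ht b e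
  have k2 := key t₀ ht₀ 1 (by rw [e₀, map_one])
  rw [map_one] at k2
  rw [k1, k2]
  exact hpre.subset_connectedComponent ⟨_, rfl⟩ ⟨_, rfl⟩

end K244.AlgComp
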