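import Groth.Agent.Sga3C.ClosedSub
import Groth.Agent.S3023
import Groth.Agent.S4367
import Groth.Agent.Ega1.ReducedSub

/-!
# The reduced identity component as a group scheme

`exists_grpObj` : a closed immersion `i : Z ⟶ G` into a group scheme over a field with `Z` and `Z × Z` reduced whose image
is the connected component of the identity is a subgroup scheme.
-/

set_option autoImplicit false
universe u

open CategoryTheory MonoidalCategory CartesianMonoidalCategory MonObj GrpObj AlgebraicGeometry
open Groth.Agent.Sga3C.ClosedSub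

namespace K244.RedGrp

variable {k : Type u} [Field k] {G Z : Over (Spec (CommRingCat.of k))} [GrpObj G]

theorem exists_grpObj (i : Z ⟶ G) [IsClosedImmersion i.left] [IsReduced Z.left] [IsReduced (Z ⊗ Z).left]
    (hrange : Set.range i.left = connectedComponent (η[G].left (IsLocalRing.closedPoint k))) :
    ConnectedSpace Z.left ∧ GeometricallyConnected Z.hom ∧ ∃ _ : GrpObj Z, IsMonHom i := by
  let pt : ↥(𝟙_ (Over (Spec (CommRingCat.of k)))).left := IsLocalRing.closedPoint k
  have hpt : ∀ q : ↥(𝟙_ (Over (Spec (CommRingCat.of k)))).left, q = pt := fun q ↦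
    Subsingleton.elim (α := ↥(Spec (CommRingCat.of k))) _ _
  let e : G.left := η[G].left pt
  have hfac : ∀ {T : Over (Spec (CommRingCat.of k))} [IsReduced T.left] (g : T ⟶ G),
      Set.range g.left ⊆ connectedComponent e → ∃ g' : T ⟶ Z, g' ≫ i = g := by
    intro T _ g hT
    obtain ⟨g', hg'⟩ := Groth.Agent.S4367.result g.left i.left (hT.trans hrange.symm.subset)
    exact ⟨Over.homMk g' (by rw [← Over.w i, ← Category.assoc, hg', Over.w]), by ext1; exact hg'⟩
  have hconn : ∀ {T : Over (Spec (CommRingCat.of k))} [IsReduced T.left] (g : T ⟶ G) [ConnectedSpace T.left]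
      (t : T.left) (_ : g.left t = e), ∃ g' : T ⟶ Z, g' ≫ i = g := by
    intro T _ g _ t ht
    apply hfac
    have h1 : _root_.IsPreconnected (Set.range g.left) := isPreconnected_range g.left.continuous
    exact h1.subset_connectedComponent (ht ▸ ⟨t, rfl⟩)
  have hred1 : IsReduced (𝟙_ (Over (Spec (CommRingCat.of k)))).left :=
    inferInstanceAs (IsReduced (Spec (CommRingCat.of k)))
  obtain ⟨e', he'⟩ : ∃ e' : 𝟙_ _ ⟶ Z, e' ≫ i = η[G] := by
    apply hfac
    rintro _ ⟨q, rfl⟩
    rw [hpt q]
    exact mem_connectedComponent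
  have hZ : ConnectedSpace Z.left := by
    rw [connectedSpace_iff_univ]
    refine ⟨⟨e'.left pt, trivial⟩, ?_⟩
    rw [← i.left.isEmbedding.isInducing.isPreconnected_image, Set.image_univ, hrange]
    exact isPreconnected_connectedComponent
  have hZg : GeometricallyConnected Z.hom := by
    refine Groth.Agent.S3023.geometricallyConnected_of_point Z.hom e'.left ?_
    exact Over.w e'
  have hZZ : ConnectedSpace (Z ⊗ Z).left := by
    change ConnectedSpace ↥(Limits.pullback Z.hom Z.hom)
    infer_instance
  have hmono : Mono i := mono_of_left i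
  refine ⟨hZ, hZg, ?_⟩
  apply exists_grpObj_of_mono
  · exact ⟨e', he'⟩
  · refine hconn ((i ⊗ₘ i) ≫ μ[G]) ((lift e' e').left pt) ?_
    have h1 : lift e' e' ≫ (i ⊗ₘ i) ≫ μ[G] = η[G] := by
      rw [lift_map_assoc, he']
      change η[G] * η[G] = η[G]
      rw [MonObj.one_eq_one, _root_.mul_one]
    change ((lift e' e').left ≫ ((i ⊗ₘ i) ≫ μ[G]).left) pt = e
    rw [← Over.comp_left, h1]
  · refine hconn (i ≫ ι[G]) (e'.left pt) ?_
    have h1 : e' ≫ i ≫ ι[G] = η[G] := by
      rw [reassoc_of% he', GrpObj.one_inv]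
    change (e'.left ≫ (i ≫ ι[G]).left) pt = e
    rw [← Over.comp_left, h1]

end K244.RedGrp
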