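import Groth.Agent.Pic13.K244.AlbCore
import Groth.Agent.Pic13.K244.RedGrp
import Groth.Agent.Pic13.K244.AlgComp
import Groth.Agent.FGA.K275.FlatApp
import Groth.Agent.Flat2B.SmoothGeom
import Groth.Agent.Grpsch.CubePush
import Groth.Agent.AbVar.K514.GI
import Groth.Prelude.Def_Pi1

/-!
# Schemes of Albanese dimension zero: the Picard variety is trivial

`H88` : the properness of the reduced identity component of the Picard scheme of a geometrically normal proper scheme.
-/

set_option autoImplicit false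
universe u

open CategoryTheory CategoryTheory.Limits MonoidalCategory CartesianMonoidalCategory MonObj GrpObj AlgebraicGeometry
open Groth.Agent.Ega3A.PicDiv Groth.Agent.Ega3A.PicEtSh Groth.Agent.Grpsch.PicGrp
open Groth.Agent.Ega3A.PicLocBase Groth.Agent.Fga.RigGrp Groth.Agent.Pic13.H965.RelGrp

namespace K244.AlbZero

/-- The reduced identity component of the Picard scheme of a geometrically normal proper scheme is smooth and
proper. -/
def H88 : Prop := ∀ (k : Type u) [Field k] (X : Scheme.{u})
    (f : X ⟶ Spec (CommRingCat.of k)) [IsProper f]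
    (_ : ∀ (k' : Type u) [Field k'] [Algebra k k'], Module.Finite k k' →
      Pi1.IsNormalScheme (pullback f (Spec.map (CommRingCat.ofHom (algebraMap k k')))))
    (P : Over (Spec (CommRingCat.of k))) [LocallyOfFiniteType P.hom]
    (φ : ∀ T : Over (Spec (CommRingCat.of k)), PicF.Cl (PicF.XT f T) → (T ⟶ P)) (_ : PicRel.IsRelPic f P φ)
    (pt : ↥(Spec (CommRingCat.of k))),
    ∃ (A : Scheme.{u}) (i : A ⟶ P.left), IsClosedImmersion i ∧ Smooth (i ≫ P.hom) ∧ IsProper (i ≫ P.hom) ∧
      Set.range i.base = connectedComponent ((φ (Over.mk (𝟙 _)) (PicF.cl (Coh.structureModule _))).left.base pt)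

variable {k : Type u} [Field k]

/-- An abelian subvariety with underlying space the identity component. -/
def HasPicVar (P : Over (Spec (CommRingCat.of k))) [GrpObj P] : Prop :=
  ∃ (A : Over (Spec (CommRingCat.of k))) (_ : GrpObj A) (i : A ⟶ P), IsMonHom i ∧ IsClosedImmersion i.left ∧
    Smooth A.hom ∧ IsProper A.hom ∧ ConnectedSpace A.left ∧ GeometricallyIntegral A.hom ∧
    Set.range i.left = connectedComponent (η[P].left (IsLocalRing.closedPoint k))

theorem hasPicVar {P : Over (Spec (CommRingCat.of k))} [GrpObj P]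
    (h : ∃ (A : Scheme.{u}) (i : A ⟶ P.left), IsClosedImmersion i ∧ Smooth (i ≫ P.hom) ∧ IsProper (i ≫ P.hom) ∧
      Set.range i = connectedComponent (η[P].left (IsLocalRing.closedPoint k))) : HasPicVar P := by
  obtain ⟨A, i, hi, hs, hp, hr⟩ := h
  let A' : Over (Spec (CommRingCat.of k)) := Over.mk (i ≫ P.hom)
  let i' : A' ⟶ P := Over.homMk i rfl
  have hs' : Smooth A'.hom := hs
  have hp' : IsProper A'.hom := hp
  have hi' : IsClosedImmersion i'.left := hi
  have r1 : IsReduced A'.left := Groth.Agent.Flat2B.SmoothGeom.isReduced_of_smooth A'.hom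
  have r2 : IsReduced (A' ⊗ A').left := by
    have : Smooth (A' ⊗ A').hom := inferInstanceAs (Smooth (pullback.fst A'.hom A'.hom ≫ A'.hom))
    exact Groth.Agent.Flat2B.SmoothGeom.isReduced_of_smooth (A' ⊗ A').hom
  obtain ⟨h1, h2, hG, h3⟩ := RedGrp.exists_grpObj i' hr
  have h4 : GeometricallyReduced A'.hom := Groth.Agent.Flat2B.SmoothGeom.geometricallyReduced_of_smooth A'.hom
  exact ⟨A', hG, i', h3, hi', hs', hp', h1, K514.GI.geometricallyIntegral A', hr⟩

/-- A map from a reduced connected scheme through the identity factors through the reduced identity component. -/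
theorem exists_factor {P A X : Over (Spec (CommRingCat.of k))} [GrpObj P] (i : A ⟶ P) [IsClosedImmersion i.left]
    (hr : Set.range i.left = connectedComponent (η[P].left (IsLocalRing.closedPoint k)))
    [IsReduced X.left] [PreconnectedSpace X.left] (d : X ⟶ P) (x : X.left)
    (hx : d.left x ∈ connectedComponent (η[P].left (IsLocalRing.closedPoint k))) : ∃ g : X ⟶ A, g ≫ i = d := by
  obtain ⟨g, hg⟩ := Groth.Agent.S4367.result d.left i.left (by
    rw [hr]
    have h1 : _root_.IsPreconnected (Set.range d.left) := isPreconnected_range d.left.continuous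
    have h2 := h1.subset_connectedComponent ⟨x, rfl⟩
    rwa [← connectedComponent_eq hx] at h2)
  exact ⟨Over.homMk g (by rw [← Over.w i, ← Category.assoc, hg, Over.w]), by ext1; exact hg⟩

/-- A `k`-point of the identity component factors through the reduced identity component. -/
theorem exists_factor_pt {P A : Over (Spec (CommRingCat.of k))} [GrpObj P] (i : A ⟶ P) [IsClosedImmersion i.left]
    (hr : Set.range i.left = connectedComponent (η[P].left (IsLocalRing.closedPoint k)))
    (d : 𝟙_ (Over (Spec (CommRingCat.of k))) ⟶ P)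
    (hx : d.left (IsLocalRing.closedPoint k) ∈ connectedComponent (η[P].left (IsLocalRing.closedPoint k))) :
    ∃ g : 𝟙_ (Over (Spec (CommRingCat.of k))) ⟶ A, g ≫ i = d := by
  have h1 : IsReduced (𝟙_ (Over (Spec (CommRingCat.of k)))).left :=
    inferInstanceAs (IsReduced (Spec (CommRingCat.of k)))
  have h2 : PreconnectedSpace (𝟙_ (Over (Spec (CommRingCat.of k)))).left :=
    inferInstanceAs (PreconnectedSpace (PrimeSpectrum k))
  exact exists_factor i hr d _ hx

/-- Invertible modules on the spectrum of a field are trivial. -/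
theorem pic_spec (c : Pic (Spec (CommRingCat.of k))) : c = 1 := by
  refine Groth.Agent.Grpsch.PicGrp.eq_one_of_local (IsLocalRing.closedPoint k : Spec (CommRingCat.of k))
    (fun U hU => ?_) c
  rw [eq_top_iff]
  intro z _
  have : z = IsLocalRing.closedPoint k := Subsingleton.elim (α := ↥(Spec (CommRingCat.of k))) _ _
  rw [this]
  exact hU

theorem hF_of_bijective (X : Over (Spec (CommRingCat.of k))) [QuasiCompact X.hom] [QuasiSeparated X.hom]
    (hX : Function.Bijective (X.hom.appTop).hom) (T : Over (Spec (CommRingCat.of k))) :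
    Function.Bijective (PicF.XTproj X.hom T).appTop := by
  have : Flat T.hom := inferInstance
  refine K275.FlatApp.bijective_app (IsPullback.of_hasPullback X.hom T.hom) (fun U => ?_) ⊤
  have hU : U = ⊥ ∨ U = ⊤ := by
    by_cases h : (IsLocalRing.closedPoint k : Spec (CommRingCat.of k)) ∈ U
    · right
      ext x
      have : x = IsLocalRing.closedPoint k := Subsingleton.elim (α := ↥(Spec (CommRingCat.of k))) _ _
      subst this
      exact ⟨fun _ => trivial, fun _ => h⟩
    · left
      ext x
      have : x = IsLocalRing.closedPoint k := Subsingleton.elim (α := ↥(Spec (CommRingCat.of k))) _ _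
      subst this
      exact ⟨fun h' => (h h').elim, fun h' => h'.elim⟩
  rcases hU with rfl | rfl
  · have s1 : Subsingleton Γ(Spec (CommRingCat.of k), ⊥) := inferInstance
    have s2 : Subsingleton Γ(X.left, X.hom ⁻¹ᵁ ⊥) := by
      have : X.hom ⁻¹ᵁ ⊥ = ⊥ := rfl
      rw [this]
      infer_instance
    exact ⟨fun a b _ => Subsingleton.elim _ _, fun b => ⟨0, Subsingleton.elim _ _⟩⟩
  · exact hX

section

variable {X P Q : Over (Spec (CommRingCat.of k))}
  {φ : ∀ T : Over (Spec (CommRingCat.of k)), PicF.Cl (PicF.XT X.hom T) → (T ⟶ P)}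

/-- Under the hypothesis of Albanese dimension zero, pointed maps from `X` to a group with an abelian variety as
reduced identity component are constant. -/
theorem eq_one_of_alb [IsReduced X.left] [PreconnectedSpace X.left] [GrpObj Q] (hQ : HasPicVar Q)
    (x₀ : 𝟙_ (Over (Spec (CommRingCat.of k))) ⟶ X)
    (halb0 : ∀ (B : Over (Spec (CommRingCat.of k))) [GrpObj B] [IsProper B.hom] [GeometricallyReduced B.hom]
      [ConnectedSpace ↥B.left] (g : X ⟶ B), x₀ ≫ g = η[B] → g = toUnit X ≫ η[B])
    (d : X ⟶ Q) (hd : x₀ ≫ d = η[Q]) : d = toUnit X ≫ η[Q] := by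
  obtain ⟨B, hB, j, hj, hjc, hs, hp, hc, hgi, hr⟩ := hQ
  obtain ⟨g, rfl⟩ := exists_factor j hr d (x₀.left (IsLocalRing.closedPoint k)) (by
    have : d.left (x₀.left (IsLocalRing.closedPoint k)) = (x₀ ≫ d).left (IsLocalRing.closedPoint k) := by
      rw [Over.comp_left]; rfl
    rw [this, hd]
    exact mem_connectedComponent)
  have hm : Mono j := Groth.Agent.Sga3C.ClosedSub.mono_of_left j
  have h1 : x₀ ≫ g = η[B] := by
    rw [← cancel_mono j, Category.assoc, hd, IsMonHom.one_hom]
  have h2 : GeometricallyReduced B.hom := Groth.Agent.Flat2B.SmoothGeom.geometricallyReduced_of_smooth B.hom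
  rw [halb0 B g h1, Category.assoc, IsMonHom.one_hom]

/-- A class algebraically equivalent to zero is trivial. -/
theorem eq_one [IsReduced X.left] [PreconnectedSpace X.left] [IsProper X.hom]
    (hX : Function.Bijective (X.hom.appTop).hom)
    (hφ : PicRel.IsRelPic X.hom P φ) [GrpObj P]
    (hφ1 : cm φ (1 : Pic (PicF.XT X.hom (𝟙_ (Over (Spec (CommRingCat.of k)))))) = η[P])
    (hP : HasPicVar P)
    (hQ : ∀ (A : Over (Spec (CommRingCat.of k))) [GrpObj A] [Smooth A.hom] [IsProper A.hom] [GeometricallyIntegral A.hom],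
      ∃ (Q : Over (Spec (CommRingCat.of k))) (_ : GrpObj Q)
        (ψ : ∀ T : Over (Spec (CommRingCat.of k)), PicF.Cl (PicF.XT A.hom T) → (T ⟶ Q)),
        PicRel.IsRelPic A.hom Q ψ ∧
        (∀ T, cm ψ (1 : Pic (PicF.XT A.hom T)) = toUnit T ≫ η[Q]) ∧ HasPicVar Q)
    (x₀ : 𝟙_ (Over (Spec (CommRingCat.of k))) ⟶ X)
    (halb0 : ∀ (B : Over (Spec (CommRingCat.of k))) [GrpObj B] [IsProper B.hom] [GeometricallyReduced B.hom]
      [ConnectedSpace ↥B.left] (g : X ⟶ B), x₀ ≫ g = η[B] → g = toUnit X ≫ η[B])
    (c : Pic (PicF.XT X.hom (𝟙_ (Over (Spec (CommRingCat.of k))))))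
    (hc : (cm φ c).left (IsLocalRing.closedPoint k) ∈ connectedComponent (η[P].left (IsLocalRing.closedPoint k))) :
    c = 1 := by
  obtain ⟨A, hA, i, hi, hic, hs, hp, hcs, hgi, hr⟩ := hP
  obtain ⟨Q, hQG, ψ, hψ, hψ1, hQV⟩ := hQ A
  have hm : Mono i := Groth.Agent.Sga3C.ClosedSub.mono_of_left i
  have hFX := hF_of_bijective X hX
  have hFA := hF_of_bijective A (Groth.Agent.Grpsch.CubeData.bijective_appTop A.hom)
  have h1 : i = cm φ (1 : Pic (PicF.XT X.hom A)) := by
    refine AlbCore.eq_const hφ hψ hFX hFA x₀ η[A] (fun d hd => ?_) i ?_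
    · rw [hψ1]
      refine eq_one_of_alb hQV x₀ halb0 d ?_
      rw [hd, hψ1]
      have : toUnit (𝟙_ (Over (Spec (CommRingCat.of k)))) = 𝟙 _ := toUnit_unique _ _
      rw [this, Category.id_comp]
    · rw [hφ1, IsMonHom.one_hom]
  have h2 : i = toUnit A ≫ η[P] := by
    rw [h1, ← hφ1, ← cm_pu hφ, map_one]
  obtain ⟨g, hg⟩ := exists_factor_pt i hr (cm φ c) hc
  have h3 : cm φ c = cm φ 1 := by
    rw [hφ1, ← hg, h2, ← Category.assoc]
    have : g ≫ toUnit A = 𝟙 _ := toUnit_unique _ _
    rw [this, Category.id_comp]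
  have h4 := PicCls.eq_base_of_cm (AlbCore.sec x₀) hφ hFX h3
  rw [h4]
  refine (congrArg (pull (PicF.XTproj X.hom _)) (pic_spec (pull (PicF.secT X.hom x₀.left (AlbCore.sec x₀) _) c))).trans ?_
  exact map_one _

end

end K244.AlbZero
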