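import Groth.Agent.Pic13.K244.AlbFin
import Groth.Agent.S0383

/-!
# Divisibility of the group of classes algebraically equivalent to zero

`exists_pow` : `k` algebraically closed, `X` proper, normal, `Γ(X, O) = k`: every class algebraically equivalent to
zero is the `n`-th power of a class algebraically equivalent to zero.
-/

set_option autoImplicit false
universe u

open CategoryTheory CategoryTheory.Limits MonoidalCategory CartesianMonoidalCategory MonObj GrpObj AlgebraicGeometry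
open Groth.Agent.Ega3A.PicDiv Groth.Agent.Ega3A.PicEtSh Groth.Agent.Grpsch.PicGrp
open Groth.Agent.Ega3A.PicLocBase Groth.Agent.Fga.RigGrp Groth.Agent.Pic13.H965.RelGrp
open Groth.Agent.Pic13.H138.AlgEquiv Groth.Agent.Pic13.H138.Slice

namespace K244.AlgDiv

open K244.AlbZero K244.AlbFin

variable {k : Type u} [Field k] [IsAlgClosed k]

/-- `n`-th roots of `k`-points of abelian varieties. -/
theorem exists_root (A : Over (Spec (CommRingCat.of k))) [GrpObj A] [IsProper A.hom]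
    (n : ℕ) (hs : Surjective ((𝟙 A : A ⟶ A) ^ n).left) (g : 𝟙_ (Over (Spec (CommRingCat.of k))) ⟶ A) :
    ∃ e : 𝟙_ (Over (Spec (CommRingCat.of k))) ⟶ A, e ^ n = g := by
  let m : A ⟶ A := (𝟙 A) ^ n
  let Z : Scheme.{u} := pullback m.left g.left
  let q : Z ⟶ Spec (CommRingCat.of k) := pullback.snd m.left g.left
  have hlm : LocallyOfFiniteType m.left := by
    have : LocallyOfFiniteType (m.left ≫ A.hom) := by rw [Over.w]; infer_instance
    exact locallyOfFiniteType_of_comp m.left A.hom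
  have hsq : Surjective q := inferInstanceAs (Surjective (pullback.snd m.left g.left))
  have hlq : LocallyOfFiniteType q := inferInstanceAs (LocallyOfFiniteType (pullback.snd m.left g.left))
  have hne : Nonempty Z := by
    obtain ⟨z, -⟩ := hsq.surj (IsLocalRing.closedPoint k)
    exact ⟨z⟩
  obtain ⟨r, hr⟩ := NoAff.exists_section q
  have h1 : (r ≫ pullback.fst m.left g.left) ≫ m.left = g.left := by
    rw [Category.assoc, pullback.condition, ← Category.assoc, hr, Category.id_comp]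
  have hw : (r ≫ pullback.fst m.left g.left) ≫ A.hom = (𝟙_ (Over (Spec (CommRingCat.of k)))).hom := by
    rw [← Over.w m, ← Category.assoc, h1]
    exact Over.w g
  refine ⟨Over.homMk (r ≫ pullback.fst m.left g.left) hw, ?_⟩
  have h2 : Over.homMk (r ≫ pullback.fst m.left g.left) hw ≫ m = g := by
    ext1
    exact h1
  refine Eq.trans ?_ h2
  rw [MonObj.comp_pow, Category.comp_id]

section

variable {X P : Over (Spec (CommRingCat.of k))}
  {φ : ∀ T : Over (Spec (CommRingCat.of k)), PicF.Cl (PicF.XT X.hom T) → (T ⟶ P)}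

omit [IsAlgClosed k] in
theorem eq_of_cm (hφ : PicRel.IsRelPic X.hom P φ) (hF : ∀ T : Over (Spec (CommRingCat.of k)),
      Function.Bijective (PicF.XTproj X.hom T).appTop)
    (x₀ : 𝟙_ (Over (Spec (CommRingCat.of k))) ⟶ X) [GrpObj P]
    (hmul : ∀ (T : Over (Spec (CommRingCat.of k))) (c d : Pic (PicF.XT X.hom T)), cm φ (c * d) = cm φ c * cm φ d)
    (hone : ∀ T, cm φ (1 : Pic (PicF.XT X.hom T)) = 1)
    {c d : Pic (PicF.XT X.hom (𝟙_ (Over (Spec (CommRingCat.of k)))))} (h : cm φ c = cm φ d) : c = d := by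
  let F : Pic (PicF.XT X.hom (𝟙_ (Over (Spec (CommRingCat.of k))))) →* (𝟙_ (Over (Spec (CommRingCat.of k))) ⟶ P) :=
    ⟨⟨cm φ, hone _⟩, hmul _⟩
  have h5 : cm φ (c / d) = cm φ (1 : Pic (PicF.XT X.hom (𝟙_ (Over (Spec (CommRingCat.of k)))))) := by
    change F _ = F 1
    rw [map_div, map_one, div_eq_one]
    exact h
  have h6 := PicCls.eq_base_of_cm (AlbCore.sec x₀) hφ hF h5
  refine div_eq_one.mp (h6.trans ?_)
  refine (congrArg (pull (PicF.XTproj X.hom _))
    (pic_spec (pull (PicF.secT X.hom x₀.left (AlbCore.sec x₀) _) (c / d)))).trans ?_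
  exact map_one _

omit [IsAlgClosed k] in
theorem cm_pow [GrpObj P]
    (hmul : ∀ (T : Over (Spec (CommRingCat.of k))) (c d : Pic (PicF.XT X.hom T)), cm φ (c * d) = cm φ c * cm φ d)
    (hone : ∀ T, cm φ (1 : Pic (PicF.XT X.hom T)) = 1) {T : Over (Spec (CommRingCat.of k))}
    (c : Pic (PicF.XT X.hom T)) (n : ℕ) : cm φ (c ^ n) = (cm φ c) ^ n := by
  let F : Pic (PicF.XT X.hom T) →* (T ⟶ P) := ⟨⟨cm φ, hone _⟩, hmul _⟩
  exact map_pow F c n

end

/-- `X ⟶ X ×_k Spec k`. -/
noncomputable def sX {X : Scheme.{u}} (f : X ⟶ Spec (CommRingCat.of k)) :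
    X ⟶ PicF.XT f (𝟙_ (Over (Spec (CommRingCat.of k)))) :=
  pullback.lift (𝟙 X) f (by
    change 𝟙 X ≫ f = f ≫ 𝟙 _
    rw [Category.id_comp, Category.comp_id])

omit [IsAlgClosed k] in
theorem sX_fst {X : Scheme.{u}} (f : X ⟶ Spec (CommRingCat.of k)) :
    sX f ≫ pullback.fst f (𝟙_ (Over (Spec (CommRingCat.of k)))).hom = 𝟙 X := pullback.lift_fst _ _ _

omit [IsAlgClosed k] in
theorem slice_eq (X : Scheme.{u}) [X.Over (Spec (CommRingCat.of k))] {A : Over (Spec (CommRingCat.of k))}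
    (u : 𝟙_ (Over (Spec (CommRingCat.of k))) ⟶ A) :
    _root_.Pic13.sliceAt k X A.hom u.left (Over.w u) =
      sX (X ↘ Spec (CommRingCat.of k)) ≫ PicF.XTmap (X ↘ Spec (CommRingCat.of k)) u := by
  apply pullback.hom_ext
  · rw [sliceAt_fst, Category.assoc]
    refine Eq.symm ((congrArg (sX _ ≫ ·) (XTmap_fst _ u)).trans (pullback.lift_fst _ _ _))
  · rw [sliceAt_snd, Category.assoc]
    refine Eq.symm ((congrArg (sX _ ≫ ·) (XTmap_XTproj _ u)).trans ?_)
    rw [← Category.assoc]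
    congr 1
    exact pullback.lift_snd _ _ _

omit [IsAlgClosed k] in
/-- A point of an abelian variety mapping to the Picard scheme is algebraically equivalent to zero. -/
theorem mem_alg0 [IsAlgClosed k] (X : Scheme.{u}) [X.Over (Spec (CommRingCat.of k))]
    {A P : Over (Spec (CommRingCat.of k))}
    {φ : ∀ T : Over (Spec (CommRingCat.of k)), PicF.Cl (PicF.XT (X ↘ Spec (CommRingCat.of k)) T) → (T ⟶ P)}
    (hφ : PicRel.IsRelPic (X ↘ Spec (CommRingCat.of k)) P φ)
    (hF : ∀ T : Over (Spec (CommRingCat.of k)), Function.Bijective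
      (PicF.XTproj (X ↘ Spec (CommRingCat.of k)) T).appTop)
    {x : Spec (CommRingCat.of k) ⟶ X} (hx : x ≫ (X ↘ Spec (CommRingCat.of k)) = 𝟙 _) [GrpObj P] [GrpObj A]
    (hφ1 : cm φ (1 : Pic (PicF.XT (X ↘ Spec (CommRingCat.of k)) (𝟙_ (Over (Spec (CommRingCat.of k)))))) = η[P])
    [ConnectedSpace A.left] [LocallyOfFiniteType A.hom] [QuasiCompact A.hom]
    (i : A ⟶ P) [IsMonHom i] (e : 𝟙_ (Over (Spec (CommRingCat.of k))) ⟶ A)
    (c : Pic (PicF.XT (X ↘ Spec (CommRingCat.of k)) (𝟙_ (Over (Spec (CommRingCat.of k))))))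
    (hc : c ∈ Rg (X ↘ Spec (CommRingCat.of k)) x hx (𝟙_ (Over (Spec (CommRingCat.of k)))))
    (hce : cm φ c = e ≫ i) :
    pull (sX (X ↘ Spec (CommRingCat.of k))) c ∈ alg0 k X := by
  obtain ⟨M, hM, hMi⟩ := PicCls.exists_rg hx hφ hF i
  have h3 : pull (PicF.XTmap (X ↘ Spec (CommRingCat.of k)) e) M = c :=
    PicCls.eq_of_cm hx hφ hF (pull_mem _ hM) hc ((cm_pu hφ _ _).trans (by rw [hMi, hce]))
  have h4 : pull (PicF.XTmap (X ↘ Spec (CommRingCat.of k)) η[A]) M = 1 :=
    PicCls.eq_of_cm hx hφ hF (pull_mem _ hM) (one_mem _)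
      ((cm_pu hφ _ _).trans (by rw [hMi, IsMonHom.one_hom, hφ1]))
  rw [mem_alg0_iff]
  refine ⟨A.left, A.hom, inferInstance, inferInstance, inferInstance, M, e.left, η[A].left, Over.w e,
    Over.w η[A], ?_, ?_⟩
  · rw [fibCl, slice_eq, pull_comp]
    exact congrArg (pull (sX _)) h3
  · rw [fibCl, slice_eq, pull_comp]
    exact (congrArg (pull (sX _)) h4).trans (map_one _)

omit [IsAlgClosed k] in
theorem mem_comp [IsAlgClosed k] (X : Scheme.{u}) [X.Over (Spec (CommRingCat.of k))]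
    {P : Over (Spec (CommRingCat.of k))}
    {φ : ∀ T : Over (Spec (CommRingCat.of k)), PicF.Cl (PicF.XT (X ↘ Spec (CommRingCat.of k)) T) → (T ⟶ P)}
    (hφ : PicRel.IsRelPic (X ↘ Spec (CommRingCat.of k)) P φ) (a : Pic X) (ha : a ∈ alg0 k X) :
    (cm φ (pull (pullback.fst (X ↘ Spec (CommRingCat.of k)) (𝟙_ (Over (Spec (CommRingCat.of k)))).hom) a)).left
      (IsLocalRing.closedPoint k) ∈
      connectedComponent ((cm φ (1 : Pic (PicF.XT (X ↘ Spec (CommRingCat.of k))
        (𝟙_ (Over (Spec (CommRingCat.of k))))))).left (IsLocalRing.closedPoint k)) := by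
  let f := X ↘ Spec (CommRingCat.of k)
  let s : Spec (CommRingCat.of k) ⟶ Spec (CommRingCat.of k) := Spec.map (CommRingCat.ofHom (algebraMap k k))
  have hs : s = 𝟙 _ := Spec.map_id _
  have h1 : @AlgEq k _ (pullback f s) (AlgComp.ovK f k) (pull (pullback.fst _ _) a) 1 := by
    let _ := AlgComp.ovK f k
    have := AlgEq.pull (k := k) (X := X) (X' := pullback f s) (pullback.fst f s) (by
      change pullback.fst f s ≫ f = pullback.snd f s
      rw [pullback.condition, hs, Category.comp_id]) ha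
    rwa [map_one] at this
  exact AlgComp.mem_of_algEq f hφ k a h1

theorem exists_pow (X : Scheme.{u}) [X.Over (Spec (CommRingCat.of k))] [IsProper (X ↘ Spec (CommRingCat.of k))]
    (hX : Function.Bijective (Over.mk (X ↘ Spec (CommRingCat.of k))).hom.appTop.hom)
    [Nonempty X]
    (hgn : Pi1.IsNormalScheme (pullback (X ↘ Spec (CommRingCat.of k))
      (Spec.map (CommRingCat.ofHom (algebraMap k (AlgebraicClosure k))))))
    (n : ℕ) (hn : 1 ≤ n) (a : Pic X) (ha : a ∈ alg0 k X) : ∃ c ∈ alg0 k X, c ^ n = a := by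
  let XX : Over (Spec (CommRingCat.of k)) := Over.mk (X ↘ Spec (CommRingCat.of k))
  have hpX : IsProper XX.hom := ‹IsProper (X ↘ Spec (CommRingCat.of k))›
  obtain ⟨r, hrr⟩ := NoAff.exists_section (X ↘ Spec (CommRingCat.of k))
  let x₀ : 𝟙_ (Over (Spec (CommRingCat.of k))) ⟶ XX := Over.homMk r hrr
  obtain ⟨P, hG, φ, hφ, hmul, hone, -, -, -, hP⟩ := exists_pic_mul XX hX x₀ hgn
  have hφ1 : cm φ (1 : Pic (PicF.XT XX.hom (𝟙_ (Over (Spec (CommRingCat.of k)))))) = η[P] := by
    rw [hone, MonObj.one_eq_one]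
  have hF := hF_of_bijective XX hX
  have h2 := mem_comp X hφ a ha
  have h2' : (cm φ (pull (pullback.fst (X ↘ Spec (CommRingCat.of k))
      (𝟙_ (Over (Spec (CommRingCat.of k)))).hom) a)).left (IsLocalRing.closedPoint k) ∈
      connectedComponent (η[P].left (IsLocalRing.closedPoint k)) := by rw [← hφ1]; exact h2
  obtain ⟨A, hA, i, hi, hic, hsm, hp, hcs, hgi, hr⟩ := hP
  have hm : Mono i := Groth.Agent.Sga3C.ClosedSub.mono_of_left i
  obtain ⟨g, hg⟩ := exists_factor_pt i hr _ h2'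
  obtain ⟨e, he⟩ := exists_root A n (Groth.Agent.S0383.result k A n hn) g
  obtain ⟨c', hc', hce⟩ := PicCls.exists_rg (AlbCore.sec x₀) hφ hF (e ≫ i)
  have h6 : c' ^ n = pull (pullback.fst XX.hom (𝟙_ (Over (Spec (CommRingCat.of k)))).hom) a := by
    apply eq_of_cm hφ hF x₀ hmul hone
    rw [cm_pow hmul hone, hce, ← MonObj.pow_comp, he, hg]
    rfl
  refine ⟨pull (sX _) c', ?_, ?_⟩
  · exact mem_alg0 X hφ hF hrr hφ1 i e c' hc' hce
  · rw [← map_pow]
    refine (congrArg (pull (sX _)) h6).trans ?_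
    refine (pull_comp _ _ _).symm.trans ?_
    rw [sX_fst, pull_id]

end K244.AlgDiv
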