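import Groth.Agent.Pic13.H967.CurveMeet
import Groth.Agent.Models.H54.HorAlg
import Groth.Agent.Fga.DimCut
import Groth.Agent.Pic13.H956.KrullPt
import Mathlib.AlgebraicGeometry.Stalk

/-!
# Integral curves through a closed point meeting a given open subset

On an integral scheme `X` locally of finite type over a field, of dimension `≥ 1`, given a closed point `x` and a
nonempty open `U`, there is an integral closed curve through `x` whose generic point lies in `U`.
-/

set_option autoImplicit false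
universe u
open CategoryTheory CategoryTheory.Limits AlgebraicGeometry TopologicalSpace

namespace K244.CurveThrough

open Groth.Agent Groth.Agent.CycB.RelDim Groth.Agent.Pic13.H960.CurveLift Groth.Agent.Pic13.H967.CurveMeet

/-- The intermediate point. -/
theorem exists_point (k : Type u) [Field k] {X : Scheme.{u}} [IsIntegral X] (p : X ⟶ Spec (CommRingCat.of k))
    [LocallyOfFiniteType p] (x : X) (hx : IsClosed ({x} : Set X)) (U : X.Opens) (hU : genericPoint X ∈ U)
    (hX : 2 ≤ topologicalKrullDim X) :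
    ∃ y : X, y ∈ U ∧ y ⤳ x ∧ y ≠ x ∧ y ≠ genericPoint X := by
  have hN : IsLocallyNoetherian X := LocallyOfFiniteType.isLocallyNoetherian p
  obtain ⟨W, hW, hxW, -⟩ := exists_isAffineOpen_mem_and_subset (X := X) (x := x) (U := ⊤) trivial
  have hηW : genericPoint X ∈ W := (genericPoint_specializes x).mem_open W.isOpen hxW
  obtain ⟨f, hfU, hηf⟩ := hW.exists_basicOpen_le (V := U) ⟨genericPoint X, hU⟩ hηW
  let t := X.presheaf.germ W x hxW f
  have ht : t ≠ 0 := by
    intro h
    have hinj := germ_injective_of_isIntegral X x hxW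
    have h0 : f = 0 := hinj (h.trans (map_zero _).symm)
    rw [h0] at hηf
    simp at hηf
  let _ : X.Over (Spec (CommRingCat.of k)) := ⟨p⟩
  have hp : LocallyOfFiniteType (X ↘ Spec (CommRingCat.of k)) := inferInstanceAs (LocallyOfFiniteType p)
  have hd : 2 ≤ ringKrullDim (X.presheaf.stalk x) := by
    rw [Fga.DimCut.ringKrullDim_stalk_eq k X x hx]; exact hX
  obtain ⟨q, hq, hq1, htq⟩ := Models.H54.HorAlg.exists_prime_height_one hd t ht
  let P : Spec (X.presheaf.stalk x) := ⟨q, hq⟩
  have hspec : X.fromSpecStalk x P ⤳ x := by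
    have h1 : X.fromSpecStalk x P ∈ Set.range (X.fromSpecStalk x) := ⟨P, rfl⟩
    rwa [Scheme.range_fromSpecStalk] at h1
  have hinj : Function.Injective (X.fromSpecStalk x) := (X.fromSpecStalk x).isEmbedding.injective
  refine ⟨X.fromSpecStalk x P, ?_, hspec, ?_, ?_⟩
  · apply hfU
    exact (Pic13.H956.KrullPt.fromSpecStalk_mem_basicOpen x hxW f P).mpr htq
  · intro h
    have h1 : P = IsLocalRing.closedPoint (X.presheaf.stalk x) :=
      hinj (h.trans Scheme.fromSpecStalk_closedPoint.symm)
    have h2 : q = IsLocalRing.maximalIdeal (X.presheaf.stalk x) := congrArg PrimeSpectrum.asIdeal h1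
    have h3 := IsLocalRing.maximalIdeal_height_eq_ringKrullDim (R := X.presheaf.stalk x)
    rw [← h2, hq1] at h3
    rw [← h3] at hd
    exact absurd hd (by decide)
  · intro h
    have h0 : (⊥ : Ideal (X.presheaf.stalk x)).IsPrime := Ideal.isPrime_bot
    have h1 : X.fromSpecStalk x P ⤳ X.fromSpecStalk x (⟨⊥, h0⟩ : Spec (X.presheaf.stalk x)) := by
      rw [h]; exact genericPoint_specializes _
    have h2 : P ⤳ (⟨⊥, h0⟩ : Spec (X.presheaf.stalk x)) := (X.fromSpecStalk x).isEmbedding.isInducing.specializes_iff.mp h1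
    have h3 : q ≤ ⊥ := (PrimeSpectrum.le_iff_specializes P ⟨⊥, h0⟩).mpr h2
    have h4 : q = ⊥ := le_bot_iff.mp h3
    rw [h4, Ideal.height_bot] at hq1
    exact zero_ne_one hq1

/-- Descent step. -/
theorem exists_smaller (k : Type u) [Field k] {X : Scheme.{u}} [IsIntegral X] (p : X ⟶ Spec (CommRingCat.of k))
    [LocallyOfFiniteType p] (n : ℕ) (hX : topologicalKrullDim X = ((n + 2 : ℕ) : WithBot ℕ∞))
    (x : X) (hx : IsClosed ({x} : Set X)) (U : X.Opens) (hU : genericPoint X ∈ U) :
    ∃ (Y : Scheme.{u}) (i : Y ⟶ X) (_ : IsClosedImmersion i) (_ : IsIntegral Y) (m : ℕ), m ≤ n ∧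
      topologicalKrullDim Y = ((m + 1 : ℕ) : WithBot ℕ∞) ∧ i (genericPoint Y) ∈ U ∧
      ∃ x' : Y, i x' = x ∧ IsClosed ({x'} : Set Y) := by
  obtain ⟨y, hyU, hyx, hne, hgen⟩ := exists_point k p x hx U hU (by rw [hX]; exact_mod_cast Nat.le_add_left _ _)
  obtain ⟨Y, i, hi, hY, hiY, hrange⟩ := Fga.IntegralSub.exists_integral_closed y
  obtain ⟨m, -, hm⟩ := exists_dim_eq k i p
  -- `dim Y ≥ 1`
  have hz : x ∈ Set.range i := by
    rw [hrange]
    exact hyx.mem_closure
  obtain ⟨x', hx'⟩ := hz
  have hz'ne : x' ≠ genericPoint Y := by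
    rintro rfl
    rw [hiY] at hx'
    exact hne hx'
  have h1 := one_le_dim hz'ne
  rw [hm] at h1
  have h1' : 1 ≤ m := by exact_mod_cast h1
  obtain ⟨m, rfl⟩ : ∃ m', m = m' + 1 := ⟨m - 1, by omega⟩
  have hx'c : IsClosed ({x'} : Set Y) := by
    have h2 : ({x'} : Set Y) = i ⁻¹' {x} := by
      ext z
      constructor
      · rintro rfl
        exact hx'
      · intro hz
        exact i.isClosedEmbedding.injective ((show i z = x from hz).trans hx'.symm)
    rw [h2]
    exact hx.preimage i.continuous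
  refine ⟨Y, i, hi, hY, m, ?_, hm, by rw [hiY]; exact hyU, x', hx', hx'c⟩
  -- `dim Y < dim X`
  by_contra hlt
  have h2 : ((n + 2 : ℕ) : WithBot ℕ∞) ≤ topologicalKrullDim (Set.range i : Set X) := by
    rw [dim_range, hm]
    have : n + 2 ≤ m + 1 := by omega
    exact_mod_cast this
  have h3 : (Set.range i : Set X) ≠ Set.univ := by
    intro h
    rw [hrange] at h
    exact hgen ((show IsGenericPoint y (Set.univ : Set X) from h).eq (genericPoint_spec X))
  have h4 := Fga.DimLt.exists_ltSeries_succ i.isClosedEmbedding.isClosed_range h3 h2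
  rw [hX] at h4
  have : n + 2 + 1 ≤ n + 2 := by exact_mod_cast h4
  omega

theorem exists_curve_aux (k : Type u) [Field k] (n : ℕ) : ∀ {X : Scheme.{u}} [IsIntegral X]
    (p : X ⟶ Spec (CommRingCat.of k)) [LocallyOfFiniteType p]
    (_ : topologicalKrullDim X = ((n + 1 : ℕ) : WithBot ℕ∞)) (x : X) (_ : IsClosed ({x} : Set X))
    (U : X.Opens) (_ : genericPoint X ∈ U),
    ∃ (C : Scheme.{u}) (i : C ⟶ X) (_ : IsClosedImmersion i) (_ : IsIntegral C),
      topologicalKrullDim C = 1 ∧ i (genericPoint C) ∈ U ∧ x ∈ Set.range i := by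
  induction n using Nat.strong_induction_on with
  | _ n ih =>
    intro X _ p _ hX x hx U hU
    obtain rfl | ⟨n, rfl⟩ : n = 0 ∨ ∃ n', n = n' + 1 := by
      rcases n with _ | n
      · exact Or.inl rfl
      · exact Or.inr ⟨n, rfl⟩
    · exact ⟨X, 𝟙 X, inferInstance, inferInstance, by simpa using hX, hU, x, rfl⟩
    · obtain ⟨Y, i, hi, hY, m, hm, hdim, hg, x', hx', hx'c⟩ := exists_smaller k p n hX x hx U hU
      obtain ⟨C, j, hj, hC, hd, hgC, z, hz⟩ := ih m (by omega) (i ≫ p) hdim x' hx'c (i ⁻¹ᵁ U) hg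
      refine ⟨C, j ≫ i, inferInstance, hC, hd, hgC, z, ?_⟩
      rw [Scheme.Hom.comp_apply, hz, hx']

/-- **Curves through a closed point.** -/
theorem exists_curve (k : Type u) [Field k] {X : Scheme.{u}} [IsIntegral X]
    (p : X ⟶ Spec (CommRingCat.of k)) [LocallyOfFiniteType p]
    (hX : 1 ≤ topologicalKrullDim X) (x : X) (hx : IsClosed ({x} : Set X)) (U : X.Opens) (hU : genericPoint X ∈ U) :
    ∃ (C : Scheme.{u}) (i : C ⟶ X) (_ : IsClosedImmersion i) (_ : IsIntegral C),
      topologicalKrullDim C = 1 ∧ i (genericPoint C) ∈ U ∧ x ∈ Set.range i := by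
  obtain ⟨n, -, hn⟩ := exists_dim_eq k (𝟙 X) p
  rw [hn] at hX
  have h1 : 1 ≤ n := by exact_mod_cast hX
  obtain ⟨n, rfl⟩ : ∃ m, n = m + 1 := ⟨n - 1, by omega⟩
  exact exists_curve_aux k n p hn x hx U hU

/-- A closed subset of a quasi-compact integral scheme which is neither empty nor everything contains a closed point,
and then there is a curve through it with generic point outside of the closed subset. -/
theorem exists_curve_meeting (k : Type u) [Field k] {X : Scheme.{u}} [IsIntegral X] [CompactSpace X]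
    (p : X ⟶ Spec (CommRingCat.of k)) [LocallyOfFiniteType p] (U : X.Opens) (hU : genericPoint X ∈ U)
    (hne : (U : Set X) ≠ Set.univ) :
    ∃ (C : Scheme.{u}) (i : C ⟶ X) (_ : IsClosedImmersion i) (_ : IsIntegral C),
      topologicalKrullDim C = 1 ∧ i (genericPoint C) ∈ U ∧ ∃ c : C, i c ∉ U := by
  have hN : IsLocallyNoetherian X := LocallyOfFiniteType.isLocallyNoetherian p
  obtain ⟨x, hxU, hx⟩ := (isClosed_compl_iff.mpr U.isOpen).exists_closed_singleton (Set.nonempty_compl.mpr hne)
  have h1 : ((1 : ℕ) : WithBot ℕ∞) ≤ topologicalKrullDim X := by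
    refine one_le_dim (z := x) ?_
    rintro rfl
    exact hxU hU
  obtain ⟨C, i, hi, hC, hd, hg, c, hc⟩ := exists_curve k p (by exact_mod_cast h1) x hx U hU
  refine ⟨C, i, hi, hC, hd, hg, c, ?_⟩
  rw [hc]
  exact hxU

end K244.CurveThrough
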