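import Groth.Agent.Pic13.H959.DevChi
import Groth.Agent.Pic13.H960.NumDescent

/-!
# Dévissage for `χ(L ⊗ F) = χ(F)`

* `chi_eq`: `Y` proper over a field, `L` invertible with `χ(W, L|_W) = χ(W, O_W)` for all integral closed subschemes `W`
  contained in a closed set `A`; then `χ(L ⊗ F) = χ(F)` for `F` coherent with support in `A`.
* `curveDeg_eq_zero`: a numerically trivial invertible module on a proper scheme of dimension `≤ 1` has degree `0`.
-/

set_option autoImplicit false
universe u
open CategoryTheory CategoryTheory.Limits AlgebraicGeometry TopologicalSpace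

namespace K244.DevEuler

open Groth.Agent Groth.Agent.Pic13.H959.NumOn Groth.Agent.Fga

variable (k : Type u) [Field k] (Y : Scheme.{u}) [Y.Over (Spec (CommRingCat.of k))]
  [IsProper (Y ↘ Spec (CommRingCat.of k))]

theorem chi_eq (d : ℕ) (hd : topologicalKrullDim Y ≤ d) (A : Set Y) (hA : IsClosed A)
    (L : Y.Modules) (hL : PicF.IsInvertible L)
    (hW : ∀ (W : Scheme.{u}) (i : W ⟶ Y), IsClosedImmersion i → IsIntegral W → Set.range i ⊆ A →
      @FGA.eulerCharLE k _ W ⟨i ≫ (Y ↘ Spec (CommRingCat.of k))⟩ ((Scheme.Modules.pullback i).obj L) d =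
        @FGA.eulerCharLE k _ W ⟨i ≫ (Y ↘ Spec (CommRingCat.of k))⟩ (Coh.structureModule W) d)
    (F : Y.Modules) (hF : Coh.IsCoh F) (hFA : CohB1.support F ⊆ A) :
    FGA.eulerCharLE k Y (CohB1.tensorMod L F) d = FGA.eulerCharLE k Y F d := by
  have := IntAdd.isNoetherian k Y
  have hadd := IntAdd.isAdd_euler k Y d hd
  have hadd' := IntAdd.isAdd_tensor Y hadd hL
  refine Ega3B.Devissage.devissage A hA
    (fun F => FGA.eulerCharLE k Y (CohB1.tensorMod L F) d = FGA.eulerCharLE k Y F d) ?_ ?_ ?_ F hF hFA
  · intro M hM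
    have h1 : IsZero (CohB1.tensorMod L M) := (DCoh.tensorBi.obj L).map_isZero hM
    rw [IntNum0.eulerCharLE_of_isZero k hM, IntNum0.eulerCharLE_of_isZero k h1]
  · intro S hS h1 h2 h3 _
    have e1 := hadd S hS h1 h2 h3
    have e2 := hadd' S hS h1 h2 h3
    simp only at e1 e2
    refine ⟨fun a b => ?_, fun a b => ?_, fun a b => ?_⟩
    all_goals
      simp only at a b ⊢
      linarith
  · intro y hy
    obtain ⟨W, i, hi, hWi, hr⟩ := CohqB.DevGeom.exists_integral (closure {y}) isClosed_closure
      isIrreducible_singleton.closure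
    have hyc : closure {y} ⊆ A := closure_minimal (Set.singleton_subset_iff.mpr hy) hA
    have hη : i (genericPoint W) = y := by
      have h1 := CohqB.DevGeom.closure_image_genericPoint i
      rw [hr] at h1
      exact (IsGenericPoint.eq (S := closure {y}) h1 rfl)
    let _ : W.Over (Spec (CommRingCat.of k)) := ⟨i ≫ (Y ↘ Spec (CommRingCat.of k))⟩
    have hiW : i ≫ (Y ↘ Spec (CommRingCat.of k)) = W ↘ Spec (CommRingCat.of k) := rfl
    refine ⟨(Coh.push i).obj (Coh.structureModule W), CycB.ClosSheaf.isCoh_push_structureModule i, ?_, ?_, ?_⟩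
    · have e1 := PicMon.euler_iso k Y (VarietyB.ProjForm.projIso i (MultInt.hasBases hL) (Coh.structureModule W)) d
      have e2 := MultInt.euler_push k i hiW (Coh.structureModule W) d
      have e3 := MultInt.euler_push k i hiW
        (CohB1.tensorMod ((Scheme.Modules.pullback i).obj L) (Coh.structureModule W)) d
      have e4 := PicMon.euler_iso k W (Ega2.Tens.runit ((Scheme.Modules.pullback i).obj L)) d
      have e5 := hW W i hi hWi (by rw [hr]; exact hyc)
      rw [e2]
      refine Eq.trans ?_ (e3.trans (e4.trans e5))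
      first | exact e1 | exact e1.symm
    · rw [← hr]
      exact CohqB.DevSimple.support_push_subset_range i _
    · rw [← hη]
      have : Nonempty ((⊤ : W.Opens) : Scheme.{u}) := ⟨⟨genericPoint W, trivial⟩⟩
      exact CohqB.DevSimple.isSimpleModule_stalk_push i _ ⊤ ⟨Scheme.Modules.restrictUnitIso _⟩

/-- On an integral proper scheme of dimension `< 1` every invertible module has degree `0`. -/
theorem curveDeg_eq_zero_of_dim_lt (W : Scheme.{u}) (p : W ⟶ Spec (CommRingCat.of k)) [IsProper p]
    (hd : topologicalKrullDim W < 1) (L : W.Modules) (hL : PicF.IsInvertible L) : Pic13.curveDeg k p L = 0 := by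
  let _ : W.Over (Spec (CommRingCat.of k)) := ⟨p⟩
  have : IsProper (W ↘ Spec (CommRingCat.of k)) := ‹IsProper p›
  have h1 := Pic13.H960.NumDescent.curveDeg_eq k W L
  have h2 := Pic13.H960.NumDescent.intNum_eq_zero k W 1 (by exact_mod_cast hd) ![L]
    (fun i => by fin_cases i; exact hL)
  rw [h2, neg_zero] at h1
  exact h1

/-- On a proper scheme of dimension `≤ 1` over a field, a numerically trivial invertible module has degree `0`. -/
theorem curveDeg_eq_zero (hd : topologicalKrullDim Y ≤ 1) (L : Y.Modules) (hL : PicF.IsInvertible L)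
    (hnum : _root_.Pic13.IsNumEquivZero k Y L) : _root_.Pic13.curveDeg k (Y ↘ Spec (CommRingCat.of k)) L = 0 := by
  have : IsLocallyNoetherian Y := LocallyOfFiniteType.isLocallyNoetherian (Y ↘ (Spec (CommRingCat.of k)))
  have h := chi_eq k Y 1 (by exact_mod_cast hd) Set.univ isClosed_univ L hL (fun W i hi hW _ => by
    have hdW : topologicalKrullDim W ≤ 1 := (i.isClosedEmbedding.isInducing.topologicalKrullDim_le).trans hd
    have h0 : _root_.Pic13.curveDeg k (i ≫ (Y ↘ Spec (CommRingCat.of k))) ((Scheme.Modules.pullback i).obj L) = 0 := by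
      by_cases h1 : topologicalKrullDim W = 1
      · exact hnum W i hW h1
      · exact curveDeg_eq_zero_of_dim_lt k W _ (lt_of_le_of_ne hdW h1) _ (Fdesc.LocGen.isInvertible_pullback i hL)
    unfold _root_.Pic13.curveDeg at h0
    linarith) (Coh.structureModule Y) (CurvesC.UnitCoh.isCoh_unit Y) (Set.subset_univ _)
  have h2 : FGA.eulerCharLE k Y (CohB1.tensorMod L (Coh.structureModule Y)) 1 = FGA.eulerCharLE k Y L 1 :=
    PicMon.euler_iso k Y (Ega2.Tens.runit L) 1
  rw [h2] at h
  unfold _root_.Pic13.curveDeg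
  exact sub_eq_zero.mpr h

end K244.DevEuler
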