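import Groth.Agent.Fga.QD1Hilb
import Groth.Agent.Ega2.LimPic
import Groth.Agent.S0083
import Groth.Agent.S0591
import Groth.Agent.Ega3A.PChart
import Groth.Agent.VarietyB.EulerBinom

/-!
# Closed subschemes of `P^n` and invertible modules over algebraic extensions of finite fields descend to finite fields

* `exists_closed_model`: a closed subscheme of `P^n_k`, `k` algebraic over a finite field `R`, comes from `P^n_C` for a
  finite field `C`.
* `exists_module_model`: and so does an invertible module on it.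
-/

set_option autoImplicit false
universe u
open CategoryTheory CategoryTheory.Limits AlgebraicGeometry Opposite TopologicalSpace

namespace K244.FinDesc

open Groth.Agent Groth.Agent.CohqB.ProjBC Groth.Agent.Fga.QD1Hilb Groth.Agent.Ega2.LimPic Groth.Agent.Etcore.FGLim

theorem lfp_of_noeth {X Y : Scheme.{u}} (f : X ⟶ Y) [IsLocallyNoetherian Y] [LocallyOfFiniteType f] :
    LocallyOfFinitePresentation f where
  finitePresentation_appLE {U} hU {V} hV e := by
    have : IsNoetherianRing Γ(Y, U) := IsLocallyNoetherian.component_noetherian ⟨U, hU⟩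
    exact RingHom.FinitePresentation.of_finiteType.1 (f.finiteType_appLE hU hV e)

/-- Finitely generated subalgebras of an algebraic extension of a finite field are finite. -/
theorem finite_of_fg {R k : Type u} [Field R] [Finite R] [Field k] [Algebra R k] [Algebra.IsAlgebraic R k]
    (C : Subalgebra R k) (hC : C.FG) : Finite C := by
  have h1 : Algebra.FiniteType R C := (Subalgebra.fg_iff_finiteType C).mp hC
  have h2 : Algebra.IsIntegral R C := ⟨fun x => by
    have h3 : IsIntegral R (x : k) := (Algebra.IsAlgebraic.isAlgebraic (R := R) (x : k)).isIntegral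
    exact (isIntegral_algHom_iff C.val Subtype.val_injective).mp h3⟩
  have h3 : Module.Finite R C := Algebra.IsIntegral.finite
  exact Module.finite_of_finite R

theorem isField_of_fg {R k : Type u} [Field R] [Finite R] [Field k] [Algebra R k] [Algebra.IsAlgebraic R k]
    (C : Subalgebra R k) (hC : C.FG) : IsField C := by
  have := finite_of_fg C hC
  exact Finite.isField_of_domain C

/-- The base change `P^n_k ⟶ P^n_C` is faithfully flat and quasi-compact. -/
theorem pmap_fpqc {C k : Type u} [Field C] [Field k] (φ : C →+* k) (n : ℕ) :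
    (@Surjective ⊓ @Flat ⊓ @QuasiCompact : MorphismProperty Scheme.{u}) (pmap φ n) := by
  have hs : Surjective (Spec.map (CommRingCat.ofHom φ)) := by
    refine ⟨fun x => ⟨IsLocalRing.closedPoint k, ?_⟩⟩
    exact Subsingleton.elim _ _
  have hf : Flat (Spec.map (CommRingCat.ofHom φ)) := by
    rw [Flat.SpecMap_iff]
    algebraize [φ]
    exact inferInstanceAs (Module.Flat C k)
  exact ⟨⟨MorphismProperty.of_isPullback (P := @Surjective) (isPullback_pmap φ n).flip hs,
    MorphismProperty.of_isPullback (P := @Flat) (isPullback_pmap φ n).flip hf⟩,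
    MorphismProperty.of_isPullback (P := @QuasiCompact) (isPullback_pmap φ n).flip inferInstance⟩

theorem isClosedImmersion_of_pmap {C k : Type u} [Field C] [Field k] (φ : C →+* k) (n : ℕ) {X X₀ : Scheme.{u}}
    {i : X ⟶ CohB1.ProjSpace n k} [IsClosedImmersion i] {i₀ : X₀ ⟶ CohB1.ProjSpace n C} {g : X ⟶ X₀}
    (h : IsPullback g i i₀ (pmap φ n)) : IsClosedImmersion i₀ :=
  S0083.result.of_isPullback h.flip (pmap_fpqc φ n) inferInstance

theorem exists_closed_model_aux {R k : Type u} [Field R] [Finite R] [Field k] [Algebra R k]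
    {n : ℕ} {X : Scheme.{u}} (i : X ⟶ CohB1.ProjSpace n k) [IsClosedImmersion i] :
    ∃ (C : Subalgebra R k) (_ : C.FG) (X₀ : Scheme.{u}) (i₀ : X₀ ⟶ CohB1.ProjSpace n C) (g : X ⟶ X₀),
      IsPullback g i i₀ (pmap (algebraMap C k) n) := by
  let t : Spec (CommRingCat.of R) ⟶ Spec (CommRingCat.of R) := 𝟙 _
  let f := CohB1.ProjSpaceOver.toBase n (Spec (CommRingCat.of R))
  have hk1 : IsProper (CohB1.ProjSpace n k ↘ Spec (CommRingCat.of k)) := VarietyB.EulerBinom.isProper_over k n
  have hLN : IsLocallyNoetherian (CohB1.ProjSpace n k) :=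
    LocallyOfFiniteType.isLocallyNoetherian (CohB1.ProjSpace n k ↘ (Spec (CommRingCat.of k)))
  have h1 : ∀ {i j} (a : i ⟶ j), IsAffineHom ((fgD k t).map a).left := fun a =>
    inferInstanceAs (IsAffineHom (Spec.map _))
  have h2 : ∀ i, CompactSpace ((fgD k t).obj i).left := fun i =>
    inferInstanceAs (CompactSpace (Spec _))
  have h3 : ∀ i, QuasiSeparatedSpace ((fgD k t).obj i).left := fun i =>
    inferInstanceAs (QuasiSeparatedSpace (Spec _))
  have h1' : ∀ (i j) (a : i ⟶ j), IsAffineHom ((fgD k t ⋙ xtF f).map a) := fun _ _ a =>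
    isAffineHom_xtF_map f ((fgD k t).map a)
  have h2' : ∀ i, CompactSpace ((fgD k t ⋙ xtF f).obj i) := fun i => compactSpace_xt f ((fgD k t).obj i)
  have h3' : ∀ i, QuasiSeparatedSpace ((fgD k t ⋙ xtF f).obj i) := fun i =>
    quasiSeparatedSpace_xt f ((fgD k t).obj i)
  have h4 : IsConnected (FGSub R k)ᵒᵖ := IsCofiltered.isConnected _
  let tk : Spec (CommRingCat.of k) ⟶ Spec (CommRingCat.of R) := Spec.map (CommRingCat.ofHom (algebraMap R k)) ≫ t
  let h : X ⟶ ((xtF f).mapCone (fgC k t)).pt := i ≫ (xt n tk).hom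
  have hlfpi : LocallyOfFinitePresentation i := lfp_of_noeth i
  have hlfp : LocallyOfFinitePresentation h := by
    have : LocallyOfFinitePresentation (i ≫ (xt n tk).hom) := inferInstance
    exact this
  have hqc : QuasiCompact h := by
    have : QuasiCompact (i ≫ (xt n tk).hom) := inferInstance
    exact this
  have hqs : QuasiSeparated h := by
    have : QuasiSeparated (i ≫ (xt n tk).hom) := inferInstance
    exact this
  obtain ⟨j, Xj, fj, g, -, -, -, hpb⟩ := S0591.result (fgD k t ⋙ xtF f) ((xtF f).mapCone (fgC k t))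
    (isLimitXT f (fgD k t) (fgC k t) (isLimitFgC k t)) X h
  let C : Subalgebra R k := j.unop.1
  let tC : Spec (CommRingCat.of C) ⟶ Spec (CommRingCat.of R) := Spec.map (CommRingCat.ofHom (algebraMap R C)) ≫ t
  have hpb' : IsPullback g (i ≫ (xt n tk).hom) fj (PicF.XTmap f (spVal t C)) := hpb
  have key : (xt n tk).hom ≫ PicF.XTmap f (spVal t C) = pmap (algebraMap C k) n ≫ (xt n tC).hom :=
    xt_hom_XTmap (algebraMap C k) tC tk (spVal t C) rfl
  have key2 : (xt n tk).hom ≫ (PicF.XTmap f (spVal t C) ≫ (xt n tC).inv) = pmap (algebraMap C k) n := by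
    rw [← Category.assoc, key, Category.assoc, Iso.hom_inv_id, Category.comp_id]
  refine ⟨C, j.unop.2, Xj, fj ≫ (xt n tC).inv, g, ?_⟩
  refine IsPullback.of_iso hpb' (Iso.refl _) (Iso.refl _) (xt n tk).symm (xt n tC).symm ?_ ?_ ?_ ?_
  · simp
  · simp
  · simp
  · exact (Iso.eq_inv_comp (xt n tk)).mpr key2

/-- **Closed subschemes of `P^n_k` descend to finite fields**, `k` algebraic over a finite field. -/
theorem exists_closed_model {R k : Type u} [Field R] [Finite R] [Field k] [Algebra R k] [Algebra.IsAlgebraic R k]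
    {n : ℕ} {X : Scheme.{u}} (i : X ⟶ CohB1.ProjSpace n k) [IsClosedImmersion i] :
    ∃ (C : Type u) (_ : Field C) (_ : Finite C) (φ : C →+* k) (X₀ : Scheme.{u}) (i₀ : X₀ ⟶ CohB1.ProjSpace n C)
      (g : X ⟶ X₀), IsClosedImmersion i₀ ∧ IsPullback g i i₀ (pmap φ n) := by
  obtain ⟨C, hC, X₀, i₀, g, h⟩ := exists_closed_model_aux (R := R) i
  have hfin := finite_of_fg C hC
  let _ : Field C := (isField_of_fg C hC).toField
  refine ⟨C, inferInstance, hfin, algebraMap C k, X₀, i₀, g, ?_, h⟩
  exact isClosedImmersion_of_pmap (C := C) (algebraMap C k) n h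

/-- **Invertible modules on closed subschemes of `P^n_k` descend to finite fields.** -/
theorem exists_module_model {C k : Type u} [Field C] [Finite C] [Field k] [Algebra C k] [Algebra.IsAlgebraic C k]
    {n : ℕ} {X X₀ : Scheme.{u}} {i : X ⟶ CohB1.ProjSpace n k} [IsClosedImmersion i]
    {i₀ : X₀ ⟶ CohB1.ProjSpace n C} [IsClosedImmersion i₀] {g : X ⟶ X₀}
    (hpb : IsPullback g i i₀ (pmap (algebraMap C k) n)) {L : X.Modules} (hL : PicF.IsInvertible L) :
    ∃ (C' : Type u) (_ : Field C') (_ : Finite C') (φ : C' →+* k) (X₁ : Scheme.{u}) (i₁ : X₁ ⟶ CohB1.ProjSpace n C')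
      (g₁ : X ⟶ X₁) (L₁ : X₁.Modules), IsClosedImmersion i₁ ∧ IsPullback g₁ i i₁ (pmap φ n) ∧
        PicF.IsInvertible L₁ ∧ Nonempty ((Scheme.Modules.pullback g₁).obj L₁ ≅ L) := by
  let t : Spec (CommRingCat.of C) ⟶ Spec (CommRingCat.of C) := 𝟙 _
  let f : X₀ ⟶ Spec (CommRingCat.of C) := i₀ ≫ CohB1.ProjSpace.toSpec n C
  have hP : IsProper (CohB1.ProjSpace n C ↘ Spec (CommRingCat.of C)) := VarietyB.EulerBinom.isProper_over C n
  have hP' : IsProper (CohB1.ProjSpace.toSpec n C) := hP
  have hf : IsProper f := inferInstance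
  have hpbX : IsPullback g (i ≫ CohB1.ProjSpace.toSpec n k) f (spO t k).hom := by
    have h1 := hpb.paste_vert (isPullback_pmap (algebraMap C k) n)
    have h2 : (spO t k).hom = Spec.map (CommRingCat.ofHom (algebraMap C k)) := Category.comp_id _
    rw [h2]
    exact h1
  let e : X ≅ PicF.XT f (spO t k) := hpbX.isoPullback
  have he1 : e.hom ≫ pullback.fst f (spO t k).hom = g := hpbX.isoPullback_hom_fst
  have he2 : e.hom ≫ pullback.snd f (spO t k).hom = i ≫ CohB1.ProjSpace.toSpec n k := hpbX.isoPullback_hom_snd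
  obtain ⟨C₀, hC₀, hξ⟩ := exists_cl_FG t f (PicF.cl ((Scheme.Modules.pullback e.inv).obj L))
    ⟨_, rfl, Fdesc.LocGen.isInvertible_pullback e.inv hL⟩
  obtain ⟨ξ₀, ⟨L₁, rfl, hL₁⟩, hξ₀⟩ := hξ C₀ le_rfl
  obtain ⟨eL⟩ := Groth.Agent.Picfga.LineDescent.cl_eq_iff.1 hξ₀
  have hfin := finite_of_fg C₀ hC₀
  let _ : Field C₀ := (isField_of_fg C₀ hC₀).toField
  -- the model over `C₀`
  let X₁ : Scheme.{u} := PicF.XT f (spO t C₀)
  have hw : (pullback.fst f (spO t C₀).hom ≫ i₀) ≫ CohB1.ProjSpace.toSpec n C =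
      pullback.snd f (spO t C₀).hom ≫ Spec.map (CommRingCat.ofHom (algebraMap C C₀)) := by
    have h2 : (spO t C₀).hom = Spec.map (CommRingCat.ofHom (algebraMap C C₀)) := Category.comp_id _
    rw [Category.assoc]
    refine (pullback.condition (f := f) (g := (spO t C₀).hom)).trans ?_
    rw [h2]
  let i₁ : X₁ ⟶ CohB1.ProjSpace n C₀ := (isPullback_pmap (algebraMap C C₀) n).lift
    (pullback.fst f (spO t C₀).hom ≫ i₀) (pullback.snd f (spO t C₀).hom) hw
  have hi₁1 : i₁ ≫ pmap (algebraMap C C₀) n = pullback.fst f (spO t C₀).hom ≫ i₀ :=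
    (isPullback_pmap (algebraMap C C₀) n).lift_fst _ _ hw
  have hi₁2 : i₁ ≫ CohB1.ProjSpace.toSpec n C₀ = pullback.snd f (spO t C₀).hom :=
    (isPullback_pmap (algebraMap C C₀) n).lift_snd _ _ hw
  have hright : IsPullback (pullback.fst f (spO t C₀).hom) i₁ i₀ (pmap (algebraMap C C₀) n) := by
    refine IsPullback.of_bot ?_ hi₁1.symm (isPullback_pmap (algebraMap C C₀) n)
    rw [hi₁2]
    have h1 := IsPullback.of_hasPullback f (spO t C₀).hom
    have h2 : (spO t C₀).hom = Spec.map (CommRingCat.ofHom (algebraMap C C₀)) := Category.comp_id _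
    have h3 : IsPullback (pullback.fst f (spO t C₀).hom) (pullback.snd f (spO t C₀).hom) f
      (Spec.map (CommRingCat.ofHom (algebraMap C C₀))) := by
      rw [← h2]
      exact h1
    exact h3
  have hi₁ : IsClosedImmersion i₁ := MorphismProperty.of_isPullback (P := @IsClosedImmersion) hright inferInstance
  let g₁ : X ⟶ X₁ := e.hom ≫ PicF.XTmap f (spVal t C₀)
  have hg₁1 : g₁ ≫ pullback.fst f (spO t C₀).hom = g := by
    have h1 : PicF.XTmap f (spVal t C₀) ≫ pullback.fst f (spO t C₀).hom = pullback.fst f (spO t k).hom :=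
      FGA.XTmap_fst f (spVal t C₀)
    rw [Category.assoc, h1, he1]
  have hg₁2 : g₁ ≫ pullback.snd f (spO t C₀).hom =
      (i ≫ CohB1.ProjSpace.toSpec n k) ≫ Spec.map (CommRingCat.ofHom (algebraMap C₀ k)) := by
    have h1 : PicF.XTmap f (spVal t C₀) ≫ pullback.snd f (spO t C₀).hom =
        pullback.snd f (spO t k).hom ≫ Spec.map (CommRingCat.ofHom (algebraMap C₀ k)) :=
      Groth.Agent.Picfga.HilbPull.XTmap_snd f (spVal t C₀)
    rw [Category.assoc, h1, ← Category.assoc, he2]
  have hcomp : pmap (algebraMap C₀ k) n ≫ pmap (algebraMap C C₀) n = pmap (algebraMap C k) n := by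
    rw [← pmap_comp]
    rfl
  have hg₁i : g₁ ≫ i₁ = i ≫ pmap (algebraMap C₀ k) n := by
    apply (isPullback_pmap (algebraMap C C₀) n).hom_ext
    · rw [Category.assoc, hi₁1, ← Category.assoc, hg₁1, Category.assoc, hcomp, hpb.w]
    · rw [Category.assoc, hi₁2, hg₁2, Category.assoc, Category.assoc, pmap_toSpec]
  refine ⟨C₀, inferInstance, hfin, algebraMap C₀ k, X₁, i₁, g₁, L₁, hi₁, ?_, hL₁, ⟨?_⟩⟩
  · refine IsPullback.of_right ?_ hg₁i hright
    rw [hg₁1]
    have h1 : IsPullback g i i₀ (pmap (algebraMap C k) n) := hpb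
    rw [← hcomp] at h1
    exact h1
  · exact ((Scheme.Modules.pullbackComp _ _).app L₁).symm ≪≫ (Scheme.Modules.pullback e.hom).mapIso eL ≪≫
      (Scheme.Modules.pullbackComp _ _).app L ≪≫ (Scheme.Modules.pullbackCongr e.hom_inv_id).app L ≪≫
      (Scheme.Modules.pullbackId X).app L

end K244.FinDesc
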