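import Groth.Agent.Pic13.K244.AlbCore
import Groth.Agent.AlgGrp.K395.PicRat
import Groth.Agent.S16121
import Groth.Agent.AbVar.K514.GI
import Groth.Agent.Flat2B.SmoothGeom
import Mathlib.AlgebraicGeometry.AlgClosed.Basic

/-!
# No affine subgroups in the Picard scheme of a normal proper scheme

* `const_of_open` : maps from open subschemes of affine spaces to `Pic X` (`X` normal, pointed) are constant;
* `isIso_of_affine` : affine smooth connected subgroups of `Pic X` are trivial (`k` algebraically closed).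
-/

set_option autoImplicit false
universe u

open CategoryTheory CategoryTheory.Limits MonoidalCategory CartesianMonoidalCategory MonObj GrpObj AlgebraicGeometry
open Opposite
open Groth.Agent.Ega3A.PicDiv Groth.Agent.Ega3A.PicEtSh Groth.Agent.Grpsch.PicGrp
open Groth.Agent.Ega3A.PicLocBase Groth.Agent.Fga.RigGrp Groth.Agent.Pic13.H965.RelGrp

namespace K244.NoAff

theorem exists_section {k : Type u} [Field k] [IsAlgClosed k] {X : Scheme.{u}} (f : X ⟶ Spec (CommRingCat.of k))
    [LocallyOfFiniteType f] [Nonempty X] : ∃ s : Spec (CommRingCat.of k) ⟶ X, s ≫ f = 𝟙 _ := by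
  have : JacobsonSpace X := LocallyOfFiniteType.jacobsonSpace f
  have h : (closedPoints X).Nonempty := by
    rw [Set.nonempty_iff_ne_empty]
    intro h0
    have h1 := closure_closedPoints (X := X)
    rw [h0, closure_empty] at h1
    exact Set.empty_ne_univ h1
  obtain ⟨x, hx⟩ := h
  exact ⟨pointOfClosedPoint f x hx, pointOfClosedPoint_comp f x hx⟩

variable {k : Type u} [Field k] {X P : Over (Spec (CommRingCat.of k))}
  {φ : ∀ T : Over (Spec (CommRingCat.of k)), PicF.Cl (PicF.XT X.hom T) → (T ⟶ P)}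

theorem const_of_open (hφ : PicRel.IsRelPic X.hom P φ)
    (hF : ∀ T : Over (Spec (CommRingCat.of k)), Function.Bijective (PicF.XTproj X.hom T).appTop)
    (x₀ : 𝟙_ (Over (Spec (CommRingCat.of k))) ⟶ X) [LocallyOfFiniteType X.hom] (hX : Pi1.IsNormalScheme X.left)
    {n : Type u} [Finite n] {V : Over (Spec (CommRingCat.of k))}
    (j : V.left ⟶ 𝔸(n; Spec (CommRingCat.of k))) [IsOpenImmersion j]
    (hj : j ≫ (𝔸(n; Spec (CommRingCat.of k)) ↘ Spec (CommRingCat.of k)) = V.hom)
    (v : 𝟙_ (Over (Spec (CommRingCat.of k))) ⟶ V) (d : V ⟶ P) : d = toUnit V ≫ v ≫ d := by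
  obtain ⟨c, hc, rfl⟩ := PicCls.exists_rg (AlbCore.sec x₀) hφ hF d
  obtain ⟨e, he⟩ : ∃ e : Pic X.left, pull (pullback.snd V.hom X.hom) e = AlbCore.sw X V c :=
    ⟨_, K395.PicRat.eq_pull_snd V X j hj hX (AlbCore.sw X V c) v⟩
  have h1 : c = pull (pullback.fst X.hom V.hom) e := by
    apply AlbCore.sw_injective X V
    rw [← he, AlbCore.sw, ← pull_comp, pullbackSymmetry_hom_comp_fst]
  have h2 : c = pu X.hom (toUnit V) (pull (pullback.fst X.hom (𝟙_ (Over (Spec (CommRingCat.of k)))).hom) e) := by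
    rw [h1, pu, ← pull_comp]
    exact congrArg (fun w => pull w e) (XTmap_fst X.hom (toUnit V)).symm
  rw [h2, cm_pu hφ]
  have : v ≫ toUnit V = 𝟙 _ := toUnit_unique _ _
  rw [← Category.assoc v, this, Category.id_comp]

theorem isIso_of_affine [IsAlgClosed k] (hφ : PicRel.IsRelPic X.hom P φ)
    (hF : ∀ T : Over (Spec (CommRingCat.of k)), Function.Bijective (PicF.XTproj X.hom T).appTop)
    (x₀ : 𝟙_ (Over (Spec (CommRingCat.of k))) ⟶ X) [LocallyOfFiniteType X.hom] (hX : Pi1.IsNormalScheme X.left)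
    [GrpObj P] [IsSeparated P.hom] (H : Over (Spec (CommRingCat.of k))) [GrpObj H] [IsAffine H.left] [Smooth H.hom]
    [ConnectedSpace H.left] (i : H ⟶ P) [IsMonHom i] [Mono i] : IsIso H.hom := by
  obtain ⟨U, n, V, e, hne, he⟩ := Groth.Agent.S16121.result k H
  let U' : Over (Spec (CommRingCat.of k)) := Over.mk (U.ι ≫ H.hom)
  let ι' : U' ⟶ H := Over.homMk U.ι rfl
  have hne' : Nonempty U'.left := hne.to_subtype
  have hlft : LocallyOfFiniteType U'.hom := by
    change LocallyOfFiniteType (U.ι ≫ H.hom)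
    infer_instance
  obtain ⟨s, hs⟩ := exists_section U'.hom
  let v : 𝟙_ (Over (Spec (CommRingCat.of k))) ⟶ U' := Over.homMk s hs
  have hgr : GeometricallyReduced H.hom := Groth.Agent.Flat2B.SmoothGeom.geometricallyReduced_of_smooth H.hom
  have hgi : GeometricallyIntegral H.hom := K514.GI.geometricallyIntegral H
  have hint : IsIntegral H.left := GeometricallyIntegral.isIntegral_of_subsingleton H.hom
  have h1 : ι' ≫ i = toUnit U' ≫ v ≫ ι' ≫ i :=
    const_of_open hφ hF x₀ hX (V := U') (e.hom ≫ V.ι) ((Category.assoc _ _ _).trans he) v (ι' ≫ i)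
  have hdom : IsDominant U.ι := by
    refine ⟨?_⟩
    rw [DenseRange, U.range_ι]
    exact U.isOpen.dense hne
  have h2 : i = toUnit H ≫ v ≫ ι' ≫ i := by
    ext1
    refine ext_of_isDominant_of_isSeparated P.hom ?_ U.ι ?_
    · rw [Over.w, Over.w]
    · have h3 := congrArg (fun w => CommaMorphism.left w) h1
      have h4 : ι' ≫ toUnit H = toUnit U' := toUnit_unique _ _
      have h5 : (ι' ≫ i) = ι' ≫ toUnit H ≫ v ≫ ι' ≫ i := by
        rw [← Category.assoc ι' (toUnit H), h4]
        exact h1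
      exact congrArg (fun w : U' ⟶ P => w.left) h5
  have h3 : v ≫ ι' ≫ i = η[P] := by
    have h7 : η[H] ≫ toUnit H = 𝟙 _ := toUnit_unique _ _
    have h8 : η[H] ≫ i = η[H] ≫ toUnit H ≫ v ≫ ι' ≫ i := congrArg (fun w => η[H] ≫ w) h2
    rw [IsMonHom.one_hom, ← Category.assoc η[H], h7, Category.id_comp] at h8
    exact h8.symm
  have h4 : 𝟙 H = toUnit H ≫ η[H] := by
    rw [← cancel_mono i, Category.id_comp, Category.assoc, IsMonHom.one_hom, ← h3]
    exact h2
  refine ⟨η[H].left, ?_, Over.w η[H]⟩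
  have h5 := congrArg (fun f : H ⟶ H => f.left) h4
  simpa using h5.symm

end K244.NoAff
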