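import Groth.Agent.Pic13.K244.DevEuler
import Groth.Agent.Pic13.H167.NumExt
import Groth.Agent.Pic13.H967.DegBaseChange
import Groth.Agent.Pic13.H959.RedLift
import Groth.Agent.Pic13.H945.DegAmple
import Groth.Agent.CohqB.AmpGeneric
import Groth.Agent.Sga3C.DimTop
import Groth.Agent.S1551

/-!
# Numerical triviality under extension of the base field

For a cartesian square `g : X' ⟶ X` over `s : Spec k' ⟶ Spec k`, `X` proper over `k`:
* `isNumEquivZero_of_pullback`: if `g^* L` is numerically trivial, so is `L` (any extension of fields);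
* `isNumEquivZero_pullback_of_integral`: if `s` is integral (`k'/k` algebraic) and `L` is numerically trivial, so is
  `g^* L`.
-/

set_option autoImplicit false
universe u
open CategoryTheory CategoryTheory.Limits AlgebraicGeometry TopologicalSpace

namespace K244.NumBC

open Groth.Agent Groth.Agent.Grpsch.PicGrp Groth.Agent.Etcore.DegZero

variable {k : Type u} [Field k] {k' : Type u} [Field k']
variable {X : Scheme.{u}} [X.Over (Spec (CommRingCat.of k))]
variable {X' : Scheme.{u}} [X'.Over (Spec (CommRingCat.of k'))]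
variable {g : X' ⟶ X} {s : Spec (CommRingCat.of k') ⟶ Spec (CommRingCat.of k)}

/-- Numerical triviality descends along extensions of fields. -/
theorem isNumEquivZero_of_pullback [IsProper (X ↘ Spec (CommRingCat.of k))]
    (hpb : IsPullback g (X' ↘ Spec (CommRingCat.of k')) (X ↘ Spec (CommRingCat.of k)) s)
    {L : X.Modules} (hL : PicF.IsInvertible L)
    (h : _root_.Pic13.IsNumEquivZero k' X' ((Scheme.Modules.pullback g).obj L)) :
    _root_.Pic13.IsNumEquivZero k X L := by
  intro Y i _ hY hdim
  have hX' : IsProper (X' ↘ Spec (CommRingCat.of k')) := MorphismProperty.of_isPullback hpb inferInstance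
  obtain ⟨Y', i', g', h1, h2, h3, h4, h5⟩ := Pic13.H967.DegBaseChange.exists_curve k X k' X' g s hpb i
  rw [← h5 L (Ega2.QCohLocal.isQCoh_of_isInvertible hL)]
  let _ : Y'.Over (Spec (CommRingCat.of k')) := ⟨i' ≫ (X' ↘ Spec (CommRingCat.of k'))⟩
  have hYp' : IsProper (Y' ↘ Spec (CommRingCat.of k')) := inferInstanceAs (IsProper (i' ≫ _))
  exact DevEuler.curveDeg_eq_zero k' Y' (by rw [h4, hdim]) _
    (Fdesc.LocGen.isInvertible_pullback i' (Fdesc.LocGen.isInvertible_pullback g hL))
    (Pic13.H960.NumDescent.isNumEquivZero_pullback k' i' rfl (Fdesc.LocGen.isInvertible_pullback g hL) h)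

/-- The degrees of `q^* a`, `a` of degree zero, vanish for `q : Y' ⟶ Y` an affine morphism of curves, possibly over
different fields. -/
theorem dg_pull_eq_zero {Y Y' : Scheme.{u}} [Y.Over (Spec (CommRingCat.of k))] [Y'.Over (Spec (CommRingCat.of k'))]
    [IsProper (Y ↘ Spec (CommRingCat.of k))] [IsProper (Y' ↘ Spec (CommRingCat.of k'))]
    [IsIntegral Y] [IsIntegral Y'] (hY : topologicalKrullDim Y = 1) (hY' : topologicalKrullDim Y' = 1)
    (q : Y' ⟶ Y) [IsAffineHom q] (a : Pic Y) (ha : dg k Y a = 0) : dg k' Y' (pull q a) = 0 := by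
  have : IsLocallyNoetherian Y := LocallyOfFiniteType.isLocallyNoetherian (Y ↘ (Spec (CommRingCat.of k)))
  have : CompactSpace Y := (quasiCompact_iff_compactSpace (Y ↘ (Spec (CommRingCat.of k)))).mp inferInstance
  have : AlgebraicGeometry.IsNoetherian Y := {}
  have : Y.IsSeparated := by
    have : IsSeparated (Y ↘ (Spec (CommRingCat.of k))) := inferInstance
    exact (Scheme.isSeparated_iff Y).mpr (by
      rw [← terminal.comp_from (Y ↘ (Spec (CommRingCat.of k)))]; infer_instance)
  obtain ⟨H, hH⟩ := S1551.result Y hY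
  have hHinv : PicF.IsInvertible H := hH.1
  have hpos : 0 < dg k Y (mk H hHinv) := (Pic13.H945.DegAmple.isAmple_iff_dg_pos k Y hY hHinv).mp hH
  have key : ∀ b : Pic Y, dg k Y b = 0 → 0 < dg k' Y' (pull q b) + dg k' Y' (pull q (mk H hHinv)) := by
    intro b hb
    obtain ⟨M, hM, hMe⟩ := exists_mk (b * mk H hHinv)
    have h1 : 0 < dg k Y (mk M hM) := by
      rw [← hMe, dg_mul k Y hY, hb, zero_add]; exact hpos
    have h2 := (Pic13.H945.DegAmple.isAmple_iff_dg_pos k Y hY hM).mpr h1
    have h3 := CohqB.AmpCocycle.isAmple_pullback q h2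
    have h4 := (Pic13.H945.DegAmple.isAmple_iff_dg_pos k' Y' hY'
      (Fdesc.LocGen.isInvertible_pullback q hM)).mp h3
    have h5 : mk ((Scheme.Modules.pullback q).obj M) (Fdesc.LocGen.isInvertible_pullback q hM) =
        pull q b * pull q (mk H hHinv) := by
      rw [← map_mul, hMe]; exact (pull_mk q hM).symm
    rw [h5, dg_mul k' Y' hY'] at h4
    exact h4
  set e := dg k' Y' (pull q (mk H hHinv)) with he
  have h1 : ∀ n : ℕ, 0 < n * dg k' Y' (pull q a) + e := fun n => by
    have := key (a ^ n) (by rw [dg_pow k Y hY, ha, mul_zero])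
    rwa [map_pow, dg_pow k' Y' hY'] at this
  have h2 : ∀ n : ℕ, 0 < -(n * dg k' Y' (pull q a)) + e := fun n => by
    have := key (a⁻¹ ^ n) (by rw [dg_pow k Y hY, dg_inv k Y hY, ha, neg_zero, mul_zero])
    rw [map_pow, map_inv, dg_pow k' Y' hY', dg_inv k' Y' hY'] at this
    linarith
  have h3 := h1 e.natAbs
  have h4 := h2 e.natAbs
  have h5 := h1 0
  have h6 : (e.natAbs : ℤ) = e := Int.natAbs_of_nonneg (by push_cast at h5; linarith)
  rw [h6] at h3 h4
  push_cast at h5
  by_contra hne
  rcases lt_or_gt_of_ne hne with h | h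
  · nlinarith
  · nlinarith

/-- Numerical triviality is preserved by algebraic extensions of the base field. -/
theorem isNumEquivZero_pullback_of_integral [IsProper (X ↘ Spec (CommRingCat.of k))] [IsIntegralHom s]
    (hpb : IsPullback g (X' ↘ Spec (CommRingCat.of k')) (X ↘ Spec (CommRingCat.of k)) s)
    {L : X.Modules} (hL : PicF.IsInvertible L) (h : _root_.Pic13.IsNumEquivZero k X L) :
    _root_.Pic13.IsNumEquivZero k' X' ((Scheme.Modules.pullback g).obj L) := by
  intro Y' i' _ hY' hdim'
  have hX' : IsProper (X' ↘ Spec (CommRingCat.of k')) := MorphismProperty.of_isPullback hpb inferInstance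
  have hg : IsIntegralHom g := MorphismProperty.of_isPullback hpb.flip inferInstance
  have hf : IsIntegralHom (i' ≫ g) := inferInstance
  obtain ⟨Y, i, hi, hY, hgen, hrange⟩ := Fga.IntegralSub.exists_integral_closed ((i' ≫ g) (genericPoint Y'))
  have hsub : Set.range (i' ≫ g) ⊆ Set.range i := by
    rw [hrange]
    rintro _ ⟨y, rfl⟩
    have h1 : y ∈ closure {genericPoint Y'} := by
      rw [genericPoint_closure]; trivial
    have h2 := image_closure_subset_closure_image (i' ≫ g).continuous (Set.mem_image_of_mem (i' ≫ g) h1)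
    rwa [Set.image_singleton] at h2
  obtain ⟨q, hq⟩ := Pic13.H959.RedLift.exists_lift i (i' ≫ g) hsub
  have hqi : IsIntegralHom (q ≫ i) := by rw [hq]; exact hf
  have hq1 : IsIntegralHom q := IsIntegralHom.of_comp q i
  have hqgen : q (genericPoint Y') = genericPoint Y := by
    apply i.isClosedEmbedding.injective
    rw [← Scheme.Hom.comp_apply, hq, hgen]
  have hqs : Surjective q := by
    refine ⟨fun y => ?_⟩
    have h1 : IsClosed (Set.range q) := q.isClosedMap.isClosed_range
    have h2 : closure {genericPoint Y} ⊆ Set.range q :=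
      h1.closure_subset_iff.mpr (Set.singleton_subset_iff.mpr ⟨_, hqgen⟩)
    rw [genericPoint_closure] at h2
    exact h2 trivial
  have hdim : topologicalKrullDim Y = 1 := by
    rw [← Sga3C.DimTop.topologicalKrullDim_eq_of_isIntegralHom q, hdim']
  let _ : Y.Over (Spec (CommRingCat.of k)) := ⟨i ≫ (X ↘ Spec (CommRingCat.of k))⟩
  let _ : Y'.Over (Spec (CommRingCat.of k')) := ⟨i' ≫ (X' ↘ Spec (CommRingCat.of k'))⟩
  have hYp : IsProper (Y ↘ Spec (CommRingCat.of k)) := inferInstanceAs (IsProper (i ≫ _))
  have hYp' : IsProper (Y' ↘ Spec (CommRingCat.of k')) := inferInstanceAs (IsProper (i' ≫ _))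
  have h0 : dg k Y (pull i (mk L hL)) = 0 := h Y i hY hdim
  have h1 := dg_pull_eq_zero (k := k) (k' := k') hdim hdim' q (pull i (mk L hL)) h0
  rw [← pull_comp, hq, pull_comp] at h1
  exact h1

end K244.NumBC
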