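import Groth.Agent.Pic13.K244.NumBC
import Groth.Agent.Pic13.H167.FieldExt
import Groth.Agent.S4277
import Groth.Agent.S4278

/-!
# Numerical triviality is preserved by arbitrary extensions of the base field
-/

set_option autoImplicit false
universe u
open CategoryTheory CategoryTheory.Limits AlgebraicGeometry TopologicalSpace

namespace K244.NumBC

open Groth.Agent

variable {k : Type u} [Field k]

theorem isIntegralHom_spec_algebraicClosure (k : Type u) [Field k] :
    IsIntegralHom (Spec.map (CommRingCat.ofHom (algebraMap k (AlgebraicClosure k)))) := by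
  rw [IsIntegralHom.SpecMap_iff]
  exact algebraMap_isIntegral_iff.mpr inferInstance

variable {E : Type u} [Field E] {X : Scheme.{u}} [X.Over (Spec (CommRingCat.of k))]
variable {X' : Scheme.{u}} [X'.Over (Spec (CommRingCat.of E))]

theorem isNumEquivZero_iso (k : Type u) [Field k] {X : Scheme.{u}} [X.Over (Spec (CommRingCat.of k))]
    {L M : X.Modules} (e : L ≅ M) (h : _root_.Pic13.IsNumEquivZero k X L) : _root_.Pic13.IsNumEquivZero k X M := by
  intro Y i _ hY hdim
  rw [← h Y i hY hdim]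
  exact (Pic13.H960.NumDescent.curveDeg_iso k _ ((Scheme.Modules.pullback i).mapIso e)).symm

/-- Numerical triviality is preserved by arbitrary extensions of the base field. -/
theorem isNumEquivZero_pullback [Algebra k E] [IsProper (X ↘ Spec (CommRingCat.of k))] {g : X' ⟶ X}
    (hpb : IsPullback g (X' ↘ Spec (CommRingCat.of E)) (X ↘ Spec (CommRingCat.of k))
      (Spec.map (CommRingCat.ofHom (algebraMap k E))))
    {L : X.Modules} (hL : PicF.IsInvertible L) (h : _root_.Pic13.IsNumEquivZero k X L) :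
    _root_.Pic13.IsNumEquivZero E X' ((Scheme.Modules.pullback g).obj L) := by
  have hX' : IsProper (X' ↘ Spec (CommRingCat.of E)) := MorphismProperty.of_isPullback hpb inferInstance
  -- the algebraic closures
  let Kb := AlgebraicClosure k
  let Eb := AlgebraicClosure E
  let _ : Algebra k Eb := ((algebraMap E Eb).comp (algebraMap k E)).toAlgebra
  let φ : Kb →ₐ[k] Eb := IsAlgClosed.lift
  -- `X_Kb`
  let s₁ : Spec (CommRingCat.of Kb) ⟶ Spec (CommRingCat.of k) := Spec.map (CommRingCat.ofHom (algebraMap k Kb))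
  let X₁ : Scheme.{u} := pullback (X ↘ Spec (CommRingCat.of k)) s₁
  let _ : X₁.Over (Spec (CommRingCat.of Kb)) := ⟨pullback.snd (X ↘ Spec (CommRingCat.of k)) s₁⟩
  have hpb₁ : IsPullback (pullback.fst (X ↘ Spec (CommRingCat.of k)) s₁) (X₁ ↘ Spec (CommRingCat.of Kb))
      (X ↘ Spec (CommRingCat.of k)) s₁ := IsPullback.of_hasPullback _ _
  have hX₁ : IsProper (X₁ ↘ Spec (CommRingCat.of Kb)) := MorphismProperty.of_isPullback hpb₁ inferInstance
  have hs₁ : IsIntegralHom s₁ := isIntegralHom_spec_algebraicClosure k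
  have hn₁ := isNumEquivZero_pullback_of_integral hpb₁ hL h
  have hL₁ : PicF.IsInvertible ((Scheme.Modules.pullback (pullback.fst (X ↘ Spec (CommRingCat.of k)) s₁)).obj L) :=
    Fdesc.LocGen.isInvertible_pullback _ hL
  have ht₁ := S4277.result Kb X₁ _ hL₁ hn₁
  -- `X_Eb`
  let s₂ : Spec (CommRingCat.of Eb) ⟶ Spec (CommRingCat.of E) := Spec.map (CommRingCat.ofHom (algebraMap E Eb))
  let X₂ : Scheme.{u} := pullback (X' ↘ Spec (CommRingCat.of E)) s₂
  let _ : X₂.Over (Spec (CommRingCat.of Eb)) := ⟨pullback.snd (X' ↘ Spec (CommRingCat.of E)) s₂⟩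
  have hpb₂ : IsPullback (pullback.fst (X' ↘ Spec (CommRingCat.of E)) s₂) (X₂ ↘ Spec (CommRingCat.of Eb))
      (X' ↘ Spec (CommRingCat.of E)) s₂ := IsPullback.of_hasPullback _ _
  have hX₂ : IsProper (X₂ ↘ Spec (CommRingCat.of Eb)) := MorphismProperty.of_isPullback hpb₂ inferInstance
  let s₃ : Spec (CommRingCat.of Eb) ⟶ Spec (CommRingCat.of Kb) := Spec.map (CommRingCat.ofHom φ.toRingHom)
  have hs₃ : s₃ ≫ s₁ = s₂ ≫ Spec.map (CommRingCat.ofHom (algebraMap k E)) := by
    simp only [s₃, s₁, s₂, ← Spec.map_comp, ← CommRingCat.ofHom_comp]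
    congr 2
    exact φ.comp_algebraMap
  let g₃ : X₂ ⟶ X₁ := pullback.lift (pullback.fst (X' ↘ Spec (CommRingCat.of E)) s₂ ≫ g)
    ((X₂ ↘ Spec (CommRingCat.of Eb)) ≫ s₃) (by
      rw [Category.assoc, Category.assoc, hpb.w, hs₃, ← Category.assoc, hpb₂.w, Category.assoc])
  have hg₃ : g₃ ≫ (X₁ ↘ Spec (CommRingCat.of Kb)) = (X₂ ↘ Spec (CommRingCat.of Eb)) ≫ s₃ :=
    pullback.lift_snd _ _ _
  have hg₃' : g₃ ≫ pullback.fst (X ↘ Spec (CommRingCat.of k)) s₁ =
      pullback.fst (X' ↘ Spec (CommRingCat.of E)) s₂ ≫ g := pullback.lift_fst _ _ _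
  have ht₂ := Pic13.H167.FieldExt.isTauEquivZero_baseChange hg₃ hL₁ ht₁
  have hn₂ := S4278.result Eb X₂ _ (Fdesc.LocGen.isInvertible_pullback g₃ hL₁) ht₂
  refine isNumEquivZero_of_pullback hpb₂ (Fdesc.LocGen.isInvertible_pullback g hL) (isNumEquivZero_iso Eb ?_ hn₂)
  exact (Scheme.Modules.pullbackComp _ _).app L ≪≫ (Scheme.Modules.pullbackCongr hg₃').app L ≪≫
    ((Scheme.Modules.pullbackComp _ _).app L).symm

end K244.NumBC
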