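import Groth.Agent.AbDual.K732.RigSheaf
import Groth.Agent.Pic13.H965.RelGrp
import Groth.Agent.Picfga.PicBridge

/-!
# Points of the Picard scheme of a scheme with a section

`hφ : PicRel.IsRelPic f P φ` (étale sheafification), `σ` a section of `f`, `Γ(T, O) = Γ(X_T, O)` for all `T`:

* `cm_norm` : a class and its normalisation have the same image;
* `eq_of_cm` : rigidified classes with the same image are equal;
* `exists_rg` : every `T ⟶ P` comes from a rigidified class on `X_T`;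
* `eq_base_of_cm_eq_one` : a class with image `cm 1` comes from the base.
-/

set_option autoImplicit false
universe u

open CategoryTheory CategoryTheory.Limits AlgebraicGeometry Opposite
open Groth.Agent.Ega3A.PicDiv Groth.Agent.Ega3A.PicEtSh Groth.Agent.Grpsch.PicGrp
open Groth.Agent.Ega3A.PicLocBase Groth.Agent.Fga.RigGrp Groth.Agent.Pic13.H965.RelGrp

namespace K244.PicCls

variable {X S : Scheme.{u}} {f : X ⟶ S}

/-- An étale covering is an fppf covering. -/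
def toF {T : Over S} (𝒰 : ECov T) : K732.Cov.FCov T where
  ι := 𝒰.ι
  V := 𝒰.V
  j := 𝒰.j
  flat i := by
    have := 𝒰.isEtale i
    infer_instance
  lfp i := by
    have := 𝒰.isEtale i
    infer_instance
  covers := 𝒰.covers

variable {σ : S ⟶ X} (hσ : σ ≫ f = 𝟙 S) {P : Over S} {φ : ∀ T : Over S, PicF.Cl (PicF.XT f T) → (T ⟶ P)}
  (hφ : PicRel.IsRelPic f P φ)

include hφ

theorem cm_base {T : Over S} (n : Pic T.left) : cm φ (pull (PicF.XTproj f T) n) = cm φ (1 : Pic (PicF.XT f T)) := by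
  choose U hU hn using fun t ↦ Groth.Agent.Picfga.PicBridge.exists_open_pull_eq_one n t
  refine (K732.Cov.zar U hU).hom_ext fun i ↦ ?_
  have h1 : pull ((K732.Cov.zar U hU).j i).left n = 1 := hn i
  rw [← cm_pu hφ, ← cm_pu hφ, ← pull_comp, XTmap_XTproj, pull_comp, h1, map_one, map_one]

theorem cm_norm {T : Over S} (c : Pic (PicF.XT f T)) : cm φ (norm f σ hσ T c) = cm φ c := by
  choose U hU hn using fun t ↦ Groth.Agent.Picfga.PicBridge.exists_open_pull_eq_one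
    (pull (PicF.secT f σ hσ T) c) t
  refine (K732.Cov.zar U hU).hom_ext fun i ↦ ?_
  have h1 : pull ((K732.Cov.zar U hU).j i).left (pull (PicF.secT f σ hσ T) c) = 1 := hn i
  rw [← cm_pu hφ, ← cm_pu hφ, norm_apply, map_div,
    ← pull_comp (PicF.XTmap f _) (PicF.XTproj f T), XTmap_XTproj, pull_comp, h1, map_one, div_one]

variable (hF : ∀ T : Over S, Function.Bijective (PicF.XTproj f T).appTop)

include hF

theorem eq_of_cm {T : Over S} {c d : Pic (PicF.XT f T)} (hc : c ∈ Rg f σ hσ T) (hd : d ∈ Rg f σ hσ T)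
    (h : cm φ c = cm φ d) : c = d := by
  obtain ⟨𝒰, h𝒰⟩ := (cm_eq_iff hφ).1 h
  exact K732.RigSheaf.rg_ext hσ hF (toF 𝒰) hc hd h𝒰

theorem exists_rg {T : Over S} (g : T ⟶ P) : ∃ c ∈ Rg f σ hσ T, cm φ c = g := by
  obtain ⟨𝒰, c, hc⟩ := exists_cm hφ g
  have hcompat : ∀ (i k : 𝒰.ι) (W : Over S) (a : W ⟶ 𝒰.V i) (b : W ⟶ 𝒰.V k), a ≫ 𝒰.j i = b ≫ 𝒰.j k →
      pull (PicF.XTmap f a) (norm f σ hσ _ (c i)) = pull (PicF.XTmap f b) (norm f σ hσ _ (c k)) := by
    intro i k W a b hab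
    refine eq_of_cm hσ hφ hF (pull_mem _ (norm_mem f σ hσ _ _)) (pull_mem _ (norm_mem f σ hσ _ _)) ?_
    rw [cm_pu hφ, cm_pu hφ, cm_norm hσ hφ, cm_norm hσ hφ, hc, hc, reassoc_of% hab]
  obtain ⟨d, hd, hdc⟩ : ∃ d ∈ Rg f σ hσ T, ∀ i : 𝒰.ι, pull (PicF.XTmap f (𝒰.j i)) d = norm f σ hσ _ (c i) :=
    K732.RigSheaf.rg_glue hσ hF (toF 𝒰) (fun i ↦ norm f σ hσ _ (c i)) (fun i ↦ norm_mem f σ hσ _ _) hcompat
  refine ⟨d, hd, hom_ext_ecov 𝒰 _ _ fun i ↦ ?_⟩
  rw [← cm_pu hφ]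
  refine (congrArg (cm φ) (hdc i)).trans ?_
  rw [cm_norm hσ hφ, hc]

theorem norm_eq_one_of_cm {T : Over S} {c : Pic (PicF.XT f T)} (h : cm φ c = cm φ (1 : Pic (PicF.XT f T))) :
    norm f σ hσ T c = 1 :=
  eq_of_cm hσ hφ hF (norm_mem f σ hσ T c) (one_mem _) ((cm_norm hσ hφ c).trans h)

theorem eq_base_of_cm {T : Over S} {c : Pic (PicF.XT f T)} (h : cm φ c = cm φ (1 : Pic (PicF.XT f T))) :
    c = pull (PicF.XTproj f T) (pull (PicF.secT f σ hσ T) c) := by
  have := norm_eq_one_of_cm hσ hφ hF h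
  rwa [norm_apply, div_eq_one] at this

end K244.PicCls
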