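import Groth.Agent.AbVar.K517.SubAV
import Groth.Agent.Sga3B.RedIdComp
import Groth.Agent.Grpsch.AbBC
import Groth.Agent.S0383
import Groth.Agent.AbVar.K514.GenDesc
import Groth.Agent.Flat2B.SmoothGeom

/-!
# Proper connected commutative group schemes over a field

`exists_smooth_closed` : a proper geometrically connected commutative group scheme over a field contains a smooth closed
subgroup scheme with the same underlying space (an abelian variety).
-/

set_option autoImplicit false
universe u

open CategoryTheory Limits MonoidalCategory CartesianMonoidalCategory MonObj GrpObj AlgebraicGeometry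

namespace K244.ProperAV

theorem surjective_pow_of_isAlgClosed {K : Type u} [Field K] [IsAlgClosed K] (N : Over (Spec (CommRingCat.of K)))
    [GrpObj N] [IsProper N.hom] [ConnectedSpace N.left] (n : ℕ) (hn : 1 ≤ n) :
    Surjective ((𝟙 N : N ⟶ N) ^ n).left := by
  obtain ⟨U, gU, u, hu1, hu2, hu3, hu4, hu5⟩ := Groth.Agent.Sga3B.RedIdComp.exists_redIdComp N
  have hsurj : Surjective u.left := by
    refine ⟨Set.range_eq_univ.1 ?_⟩
    rw [hu5]
    exact PreconnectedSpace.connectedComponent_eq_univ _
  have hp : IsProper U.hom := by rw [← Over.w u]; infer_instance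
  have hgr : GeometricallyReduced U.hom := Groth.Agent.Flat2B.SmoothGeom.geometricallyReduced_of_smooth U.hom
  have hgi : GeometricallyIntegral U.hom := K514.GI.geometricallyIntegral U
  have h1 : Surjective ((𝟙 U : U ⟶ U) ^ n).left := Groth.Agent.S0383.result K U n hn
  have h2 : ((𝟙 U : U ⟶ U) ^ n) ≫ u = u ≫ (𝟙 N : N ⟶ N) ^ n := by
    rw [MonObj.pow_comp, MonObj.comp_pow, Category.id_comp, Category.comp_id]
  have h3 : Surjective (u.left ≫ ((𝟙 N : N ⟶ N) ^ n).left) := by
    rw [← Over.comp_left, ← h2, Over.comp_left]
    infer_instance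
  exact Surjective.of_comp u.left _

variable {k : Type u} [Field k]

attribute [local instance] Functor.grpObjObj in
theorem surjective_pow (N : Over (Spec (CommRingCat.of k))) [GrpObj N] [IsProper N.hom] [GeometricallyConnected N.hom]
    (n : ℕ) (hn : 1 ≤ n) : Surjective ((𝟙 N : N ⟶ N) ^ n).left := by
  let f : Spec (CommRingCat.of (AlgebraicClosure k)) ⟶ Spec (CommRingCat.of k) :=
    Spec.map (CommRingCat.ofHom (algebraMap k (AlgebraicClosure k)))
  refine K514.GenDesc.surjective_of_bc _ f ?_
  have hp : IsProper ((Over.pullback f).obj N).hom := inferInstanceAs (IsProper (pullback.snd N.hom f))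
  have hc : ConnectedSpace ((Over.pullback f).obj N).left := by
    change ConnectedSpace ↥(pullback N.hom f)
    infer_instance
  rw [K517.SubAV.map_pow_one]
  exact surjective_pow_of_isAlgClosed _ n hn

/-- A proper geometrically connected commutative group scheme contains a smooth closed subgroup with the same
underlying space. -/
theorem exists_smooth_closed (N : Over (Spec (CommRingCat.of k))) [GrpObj N] [IsCommMonObj N] [IsProper N.hom]
    [GeometricallyConnected N.hom] :
    ∃ (H : Over (Spec (CommRingCat.of k))) (_ : GrpObj H) (i : H ⟶ N), IsMonHom i ∧ IsClosedImmersion i.left ∧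
      Surjective i.left ∧ Smooth H.hom := by
  obtain ⟨H, gH, p, i, m, hm, hp, hi, hpi, -, -, hcl, hdiv⟩ := K517.DivRed.exists_divisible N
  have hmono : Mono i := (Over.forget _).mono_of_mono_map (inferInstanceAs (Mono i.left))
  have hcomm : IsCommMonObj H := Groth.Agent.Sga3.H830.CommAux.isCommMonObj_of_mono i
  have hlft : LocallyOfFiniteType H.hom := by rw [← Over.w i]; infer_instance
  have hqc : QuasiCompact H.hom := by rw [← Over.w i]; infer_instance
  have hgr : GeometricallyReduced H.hom := K517.SubAV.geometricallyReduced_of_divisible H hdiv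
  have h1 : Surjective (p.left ≫ i.left) := by
    rw [← Over.comp_left, hpi]
    exact surjective_pow N m hm
  exact ⟨H, gH, i, hi, hcl, Surjective.of_comp p.left i.left, Groth.Agent.Grpsch.AbBC.smooth_hom H⟩

end K244.ProperAV
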