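import Groth.Agent.Pic13.K244.NoAff
import Groth.Agent.Pic13.K244.ProperAV
import Groth.Agent.Pic13.K244.AlbZero
import Groth.Agent.S17906
import Groth.Agent.S7520
import Groth.Agent.S0086
import Groth.Agent.Sga3.H783.Dichotomy
import Groth.Agent.Fdesc.GeomAlgClosed

/-!
# The Picard variety of a pointed geometrically normal proper scheme

`hasPicVar_of_pointed` : `X` proper over a field with `Γ(X, O) = k`, a rational point and normal `X_k̄`: the identity
component of the Picard scheme is proper and contains an abelian variety with the same underlying space.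
-/

set_option autoImplicit false
universe u

open CategoryTheory CategoryTheory.Limits MonoidalCategory CartesianMonoidalCategory MonObj GrpObj AlgebraicGeometry
open Opposite
open Groth.Agent.Ega3A.PicDiv Groth.Agent.Ega3A.PicEtSh Groth.Agent.Grpsch.PicGrp
open Groth.Agent.Ega3A.PicLocBase Groth.Agent.Fga.RigGrp Groth.Agent.Pic13.H965.RelGrp

namespace K244.PicPointed

open K244.AlbZero

variable {k : Type u} [Field k]

/-- A group homomorphism from a group of finite type which is a monomorphism to a separated group without affine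
subgroups has proper source. -/
theorem isProper_of_noAff {K : Type u} [Field K] [IsAlgClosed K] (N P : Over (Spec (CommRingCat.of K)))
    [GrpObj N] [GrpObj P] [LocallyOfFiniteType N.hom] [QuasiCompact N.hom] (i : N ⟶ P) [IsMonHom i] [Mono i]
    (h : ∀ (H : Over (Spec (CommRingCat.of K))) [GrpObj H] [IsAffine H.left] [Smooth H.hom] [ConnectedSpace H.left]
      (j : H ⟶ P) [IsMonHom j] [Mono j], IsIso H.hom) : IsProper N.hom := by
  by_contra hN
  obtain ⟨H, gH, j, hj, hcl, haff, hs, hc, hni⟩ :=
    Groth.Agent.Sga3.H783.Dichotomy.exists_affine_subgroup K N hN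
  have hm : Mono j := Groth.Agent.Sga3C.ClosedSub.mono_of_left j
  exact hni (h H (j ≫ i))

section

attribute [local instance] Functor.grpObjObj

theorem isProper_of_pointed {X P N : Over (Spec (CommRingCat.of k))}
    {φ : ∀ T : Over (Spec (CommRingCat.of k)), PicF.Cl (PicF.XT X.hom T) → (T ⟶ P)}
    (hφ : PicRel.IsRelPic X.hom P φ) [GrpObj P] [LocallyOfFiniteType P.hom]
    [IsProper X.hom] (hX : Function.Bijective (X.hom.appTop).hom)
    (x₀ : 𝟙_ (Over (Spec (CommRingCat.of k))) ⟶ X)
    (hn : Pi1.IsNormalScheme (pullback X.hom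
      (Spec.map (CommRingCat.ofHom (algebraMap k (AlgebraicClosure k))))))
    [GrpObj N] [LocallyOfFiniteType N.hom] [QuasiCompact N.hom] (i : N ⟶ P) [IsMonHom i] [IsClosedImmersion i.left] :
    IsProper N.hom := by
  let g : Spec (CommRingCat.of (AlgebraicClosure k)) ⟶ Spec (CommRingCat.of k) :=
    Spec.map (CommRingCat.ofHom (algebraMap k (AlgebraicClosure k)))
  let XK : Over (Spec (CommRingCat.of (AlgebraicClosure k))) := Over.mk (pullback.snd X.hom g)
  let PK : Over (Spec (CommRingCat.of (AlgebraicClosure k))) := (Over.pullback g).obj P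
  let NK : Over (Spec (CommRingCat.of (AlgebraicClosure k))) := (Over.pullback g).obj N
  let φK : ∀ T : Over (Spec (CommRingCat.of (AlgebraicClosure k))), PicF.Cl (PicF.XT XK.hom T) → (T ⟶ PK) :=
    fun T c => Over.homMk
        (pullback.lift (φ (Over.mk (T.hom ≫ g)) (PicF.pullCl (pullbackLeftPullbackSndIso X.hom g T.hom).inv c)).left T.hom
          (Over.w (φ (Over.mk (T.hom ≫ g)) (PicF.pullCl (pullbackLeftPullbackSndIso X.hom g T.hom).inv c))))
        (pullback.lift_snd _ _ _)
  have hφK : PicRel.IsRelPic XK.hom PK φK := Groth.Agent.S17906.result X.hom g P φ hφ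
  have hXK : Function.Bijective (XK.hom.appTop).hom := hF_of_bijective X hX (Over.mk g)
  have hpXK : IsProper XK.hom := inferInstanceAs (IsProper (pullback.snd X.hom g))
  have hFK := hF_of_bijective XK hXK
  let x₁ : 𝟙_ (Over (Spec (CommRingCat.of (AlgebraicClosure k)))) ⟶ XK :=
    Over.homMk (pullback.lift (g ≫ x₀.left) (𝟙 _) (by
      rw [Category.assoc, AlbCore.sec x₀, Category.comp_id, Category.id_comp])) (pullback.lift_snd _ _ _)
  have hsP : IsSeparated P.hom := Groth.Agent.Books.AntiAffine.isSeparated_hom P
  have hsPK : IsSeparated PK.hom := inferInstanceAs (IsSeparated (pullback.snd P.hom g))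
  have hl2 : LocallyOfFiniteType NK.hom := inferInstanceAs (LocallyOfFiniteType (pullback.snd N.hom g))
  have hq2 : QuasiCompact NK.hom := inferInstanceAs (QuasiCompact (pullback.snd N.hom g))
  have hm : Mono i := Groth.Agent.Sga3C.ClosedSub.mono_of_left i
  have hmK : Mono ((Over.pullback g).map i) := inferInstance
  have hp : IsProper NK.hom := by
    refine isProper_of_noAff NK PK ((Over.pullback g).map i) ?_
    intro H _ _ _ _ j _ _
    exact NoAff.isIso_of_affine (X := XK) hφK hFK x₁ hn H j
  have hd := Groth.Agent.S0086.result.{u}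
  exact MorphismProperty.of_pullback_snd_of_descendsAlong (P := @IsProper) (Q := @Surjective ⊓ @Flat ⊓ @QuasiCompact)
    (f := N.hom) (g := g) ⟨⟨inferInstance, inferInstance⟩, inferInstance⟩ hp

end

theorem hasPicVar_of_pointed {X P : Over (Spec (CommRingCat.of k))}
    {φ : ∀ T : Over (Spec (CommRingCat.of k)), PicF.Cl (PicF.XT X.hom T) → (T ⟶ P)}
    (hφ : PicRel.IsRelPic X.hom P φ) [GrpObj P] [IsCommMonObj P] [LocallyOfFiniteType P.hom]
    [IsProper X.hom] (hX : Function.Bijective (X.hom.appTop).hom)
    (x₀ : 𝟙_ (Over (Spec (CommRingCat.of k))) ⟶ X)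
    (hn : Pi1.IsNormalScheme (pullback X.hom
      (Spec.map (CommRingCat.ofHom (algebraMap k (AlgebraicClosure k)))))) : HasPicVar P := by
  obtain ⟨N, gN, i, hi, hcl, hfl, hr, hgirr, hcomp⟩ := Groth.Agent.S7520.result k P
  have hm : Mono i := Groth.Agent.Sga3C.ClosedSub.mono_of_left i
  have hcomm : IsCommMonObj N := Groth.Agent.Sga3.H830.CommAux.isCommMonObj_of_mono i
  have hlft : LocallyOfFiniteType N.hom := by rw [← Over.w i]; infer_instance
  have hqc : QuasiCompact N.hom := inferInstance
  have hp : IsProper N.hom := isProper_of_pointed hφ hX x₀ hn i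
  have hgc : GeometricallyConnected N.hom :=
    Groth.Agent.Fdesc.GeomAlgClosed.geometricallyConnected_of_geometricallyIrreducible N.hom
  obtain ⟨H, gH, h, hmon, hclH, hsurj, hsm⟩ := ProperAV.exists_smooth_closed N
  have hpH : IsProper H.hom := by rw [← Over.w h]; infer_instance
  have hr2 : Set.range (h ≫ i).left = Set.range i.left := by
    rw [Over.comp_left, Scheme.Hom.comp_base, TopCat.coe_comp, Set.range_comp,
      Set.range_eq_univ.mpr hsurj.surj, Set.image_univ]
  have hci : IsClosedImmersion (h ≫ i).left := by rw [Over.comp_left]; infer_instance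
  have hNc : ConnectedSpace N.left := GeometricallyConnected.connectedSpace_of_subsingleton N.hom
  have hHc : ConnectedSpace H.left := by
    have e := h.left.isClosedEmbedding.isEmbedding.toHomeomorphOfSurjective hsurj.surj
    exact e.symm.surjective.connectedSpace e.symm.continuous
  have hgr : GeometricallyReduced H.hom := Groth.Agent.Flat2B.SmoothGeom.geometricallyReduced_of_smooth H.hom
  exact ⟨H, gH, h ≫ i, inferInstance, hci, hsm, hpH, hHc, K514.GI.geometricallyIntegral H, hr2.trans hr⟩

end K244.PicPointed
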