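import Groth.Agent.Grpsch.PicGrp
import Groth.Agent.VarietyB.ProjForm
import Groth.Agent.VarietyB.ExactLoc
import Groth.Agent.Ega2.QCohLocal

/-!
# Triviality of invertible modules: disjoint covers and morphisms with `f_* O = O`

* `exists_gen_iff`: `M|_U` is trivial iff there is a generator on `U`.
* `exists_gen_of_disjoint`: generators on the members of a disjoint open cover glue.
* `eq_one_of_pull`: if `O_Y → f_* O_X` is bijective on sections, `f^* : Pic Y → Pic X` is injective.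
-/

set_option autoImplicit false
universe u
open CategoryTheory CategoryTheory.Limits AlgebraicGeometry Opposite TopologicalSpace

namespace K244.PushInj

open Groth.Agent Groth.Agent.Grpsch.PicGrp Groth.Agent.Fdesc.LocGen

variable {X Y : Scheme.{u}}

/-- Generators over the members of a disjoint family glue. -/
theorem exists_gen_of_disjoint (M : X.Modules) {ι : Type*} (U : ι → X.Opens)
    (hd : ∀ i j, i ≠ j → U i ⊓ U j = ⊥) (h : ∀ i, ∃ e : Γ(M, U i), IsGen e) :
    ∃ e : Γ(M, ⨆ i, U i), IsGen e := by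
  choose e he using h
  obtain ⟨t, ht⟩ := res_glue M U (fun i => le_iSup U i) le_rfl e (fun i j => by
    by_cases hij : i = j
    · subst hij; rfl
    · refine res_ext M (ι := PEmpty.{1}) (fun a => a.elim) (fun a => a.elim) ?_ (fun a => a.elim)
      rw [hd i j hij]
      exact bot_le)
  exact ⟨t, IsGen.of_cover U (fun i => le_iSup U i) le_rfl fun i => by rw [ht]; exact he i⟩

/-- `M|_U` is trivial iff `M` has a generator on `U`. -/
theorem exists_gen_iff {M : X.Modules} (hM : PicF.IsInvertible M) (U : X.Opens) :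
    (∃ e : Γ(M, U), IsGen e) ↔ pull U.ι (mk M hM) = 1 := by
  rw [pull_mk, mk_eq_one_iff]
  have hU : U.ι ''ᵁ (⊤ : (U : Scheme.{u}).Opens) = U := by simp
  have e1 : M.restrict U.ι ≅ (Scheme.Modules.pullback U.ι).obj M :=
    (Scheme.Modules.restrictFunctorIsoPullback U.ι).app M
  constructor
  · rintro ⟨e, he⟩
    have h1 : ∃ e' : Γ(M, U.ι ''ᵁ (⊤ : (U : Scheme.{u}).Opens)), IsGen e' := by
      rw [hU]; exact ⟨e, he⟩
    obtain ⟨e', he'⟩ := h1
    have h2 : IsGen (toRestrict U.ι e') := (isGen_toRestrict_iff U.ι e').mpr he'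
    have h3 : IsIso (homOf (toRestrict U.ι e')) := by
      rw [isIso_iff_isGen]; simpa using h2
    exact ⟨((asIso (homOf (toRestrict U.ι e'))) ≪≫ e1).symm⟩
  · rintro ⟨φ⟩
    have h1 : IsGen ((φ ≪≫ Iso.refl _).symm.hom.app ⊤ (one ⊤)) := (isGen_one ⊤).app (φ ≪≫ Iso.refl _).symm.hom
    have h2 := h1.app e1.inv
    set e₀ := e1.inv.app ⊤ ((φ ≪≫ Iso.refl _).symm.hom.app ⊤ (one ⊤)) with he₀
    have h3 : IsGen ((toRestrict U.ι).symm e₀ : Γ(M, U.ι ''ᵁ (⊤ : (U : Scheme.{u}).Opens))) := by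
      rw [← isGen_toRestrict_iff U.ι, AddEquiv.apply_symm_apply]
      exact h2
    have h4 : ∃ e' : Γ(M, U.ι ''ᵁ (⊤ : (U : Scheme.{u}).Opens)), IsGen e' := ⟨_, h3⟩
    rwa [hU] at h4

/-- A class which is trivial on the members of a disjoint open cover is trivial. -/
theorem eq_one_of_disjoint {ι : Type*} (U : ι → X.Opens) (hU : ⨆ i, U i = ⊤)
    (hd : ∀ i j, i ≠ j → U i ⊓ U j = ⊥) (c : Pic X) (h : ∀ i, pull (U i).ι c = 1) : c = 1 := by
  obtain ⟨M, hM, rfl⟩ := exists_mk c
  obtain ⟨e, he⟩ : ∃ e : Γ(M, ⊤), IsGen e := by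
    rw [← hU]
    exact exists_gen_of_disjoint M U hd fun i => (exists_gen_iff hM (U i)).mpr (h i)
  rw [mk_eq_one_iff]
  have h3 : IsIso (homOf e) := by
    rw [isIso_iff_isGen]; simpa using he
  exact ⟨(asIso (homOf e)).symm⟩

/-- `O_Y ≅ f_* O_X` if `f` is bijective on sections. -/
theorem nonempty_pushUnit (f : X ⟶ Y) (hf : ∀ V : Y.Opens, IsIso (f.app V)) :
    Nonempty (Coh.structureModule Y ≅ (Scheme.Modules.pushforward f).obj (Coh.structureModule X)) := by
  let m : Γ((Scheme.Modules.pushforward f).obj (Coh.structureModule X), ⊤) := one (X := X) (f ⁻¹ᵁ ⊤)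
  have hm : IsGen m := by
    intro V hV
    have h1 : res ((Scheme.Modules.pushforward f).obj (Coh.structureModule X)) hV m =
        (one (X := X) (f ⁻¹ᵁ V) : Γ(Coh.structureModule X, f ⁻¹ᵁ V)) := res_one (X := X) (f.preimage_mono hV)
    have h2 : Function.Bijective (f.app V).hom := by
      have := hf V
      exact (ConcreteCategory.isIso_iff_bijective (f.app V)).mp inferInstance
    have h3 : (fun a : Γ(Y, V) => a • res ((Scheme.Modules.pushforward f).obj (Coh.structureModule X)) hV m) =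
        (ofFun (X := X) (U := f ⁻¹ᵁ V)) ∘ (f.app V).hom := by
      funext a
      rw [h1]
      exact (ofFun_eq_smul (X := X) ((f.app V).hom a)).symm
    rw [h3]
    exact (ofFun (X := X) (U := f ⁻¹ᵁ V)).bijective.comp h2
  have h3 : IsIso (homOf m) := by
    rw [isIso_iff_isGen, sec_homOf]
    exact hm.res le_top
  exact ⟨asIso (homOf m)⟩

/-- If `O_Y → f_* O_X` is bijective on sections then `f^* : Pic Y → Pic X` has trivial kernel. -/
theorem eq_one_of_pull (f : X ⟶ Y) (hf : ∀ V : Y.Opens, IsIso (f.app V)) (c : Pic Y) (h : pull f c = 1) : c = 1 := by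
  obtain ⟨M, hM, rfl⟩ := exists_mk c
  rw [pull_mk, mk_eq_one_iff] at h
  rw [mk_eq_one_iff]
  obtain ⟨e⟩ := h
  obtain ⟨u⟩ := nonempty_pushUnit f hf
  have hB : VarietyB.TensCoh.HasBases M := VarietyB.ExactLoc.hasBasis_of_isFinLocFreeOfRank
    (Ega2.QCohLocal.isFinLocFreeOfRank_one_iff.mpr hM)
  exact ⟨(Ega2.Tens.runit M).symm ≪≫ Ega2.Tens.mapTIso (Iso.refl M) u ≪≫ VarietyB.ProjForm.projIsoUnit f hB ≪≫
    (Scheme.Modules.pushforward f).mapIso e ≪≫ u.symm⟩

end K244.PushInj
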