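import Groth.Agent.Pic13.K244.Reg
import Groth.Agent.VarietyB.RegGen
import Groth.Agent.VarietyB.EulerBinom
import Groth.Agent.VarietyA.EulerLES
import Groth.Agent.Fga.MumInputs
import Groth.Agent.S0038

/-!
# Castelnuovo–Mumford: cohomology bounds from `0 → F(-1) → F → G → 0` with `G` regular

On `P = P^n_k`: `S : 0 → A → B → C → 0` a short exact sequence of coherent modules with `A ≅ B(-1)` and `C` `m`-regular.
* `van_two`: `H^q(B(t)) = 0` for `q ≥ 2`, `t ≥ m - q`;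
* `h1_le`: `h^1(B(t)) ≤ h^1(B(t - 1))` for `t ≥ m - 1`;
* `h1_drop`: for `t ≥ m`: `h^1(B(t)) < h^1(B(t-1))` or `h^1(B(t-1)) = 0`;
* `h1_zero`: `H^1(B(t)) = 0` for `t ≥ m - 1 + h^1(B(m-1))`.
-/

set_option autoImplicit false
universe u
open CategoryTheory CategoryTheory.Limits AlgebraicGeometry Opposite TopologicalSpace

namespace K244.RegSeq

open Groth.Agent Groth.Agent.VarietyA.EulerLES Groth.Agent.VarietyB.EulerBinom
open Groth.Agent.Fga.TwistGr Groth.Agent.Fga.HShift Groth.Agent.VarietyB.KoszulCone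

variable (k : Type u) [Field k] (n : ℕ)

/-- `H^i(P^n, F(t))`. -/
abbrev H (F : (CohB1.ProjSpace n k).Modules) (t : ℤ) (i : ℕ) : Type u :=
  Coh.HH (CohB1.ProjSpace n k) (CohB1.tensorMod F (Twist.twistProjSpace n k t)) i

theorem finite_H {F : (CohB1.ProjSpace n k).Modules} (hF : Coh.IsCoh F) (t : ℤ) (i : ℕ) :
    Module.Finite k (H k n F t i) :=
  S0038.result n k _ (isCoh_tensor_twist k n hF t) i

section

variable {k n} {S : ShortComplex (CohB1.ProjSpace n k).Modules} (hS : S.ShortExact)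
  (e : S.X₁ ≅ CohB1.tensorMod S.X₂ (Twist.twistProjSpace n k (-1)))

/-- `A(t) ≅ B(t-1)`. -/
theorem nonempty_shift (e : S.X₁ ≅ CohB1.tensorMod S.X₂ (Twist.twistProjSpace n k (-1))) (t : ℤ) :
    Nonempty (CohB1.tensorMod S.X₁ (Twist.twistProjSpace n k t) ≅
      CohB1.tensorMod S.X₂ (Twist.twistProjSpace n k (t - 1))) := by
  obtain ⟨e'⟩ := Sga67.SerreVB.nonempty_tw_tw n k (-1) t S.X₂
  have h : (-1 : ℤ) + t = t - 1 := by ring
  rw [h] at e'
  exact ⟨(DCoh.tensorRightMod (Twist.twistProjSpace n k t)).mapIso e ≪≫ e'⟩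

theorem nonempty_equivH (e : S.X₁ ≅ CohB1.tensorMod S.X₂ (Twist.twistProjSpace n k (-1))) (t : ℤ) (i : ℕ) :
    Nonempty (H k n S.X₁ t i ≃ₗ[k] H k n S.X₂ (t - 1) i) := by
  obtain ⟨e'⟩ := nonempty_shift e t
  exact ⟨equivA k e' i⟩

/-- `f(t)_* : H^i(A(t)) → H^i(B(t))`. -/
noncomputable abbrev fm (S : ShortComplex (CohB1.ProjSpace n k).Modules) (t : ℤ) (i : ℕ) :
    H k n S.X₁ t i →ₗ[k] H k n S.X₂ t i :=
  mapA k ((DCoh.tensorRightMod (Twist.twistProjSpace n k t)).map S.f) i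

/-- `g(t)_* : H^i(B(t)) → H^i(C(t))`. -/
noncomputable abbrev gm (S : ShortComplex (CohB1.ProjSpace n k).Modules) (t : ℤ) (i : ℕ) :
    H k n S.X₂ t i →ₗ[k] H k n S.X₃ t i :=
  mapA k ((DCoh.tensorRightMod (Twist.twistProjSpace n k t)).map S.g) i

/-- the connecting map `H^i(C(t)) → H^{i+1}(A(t))`. -/
noncomputable abbrev dm (hS : S.ShortExact) (t : ℤ) (i : ℕ) : H k n S.X₃ t i →ₗ[k] H k n S.X₁ t (i + 1) :=
  deltaA k (S.map (DCoh.tensorRightMod (Twist.twistProjSpace n k t))) (shortExact_twist k n hS t) i (i + 1) rfl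

theorem exact_fg (hS : S.ShortExact) (t : ℤ) (i : ℕ) : Function.Exact (fm S t i) (gm S t i) :=
  exactA₂ k (S.map (DCoh.tensorRightMod (Twist.twistProjSpace n k t))) (shortExact_twist k n hS t) i

theorem exact_gd (hS : S.ShortExact) (t : ℤ) (i : ℕ) : Function.Exact (gm S t i) (dm hS t i) :=
  exactA₃ k (S.map (DCoh.tensorRightMod (Twist.twistProjSpace n k t))) (shortExact_twist k n hS t) i (i + 1) rfl

theorem exact_df (hS : S.ShortExact) (t : ℤ) (i : ℕ) : Function.Exact (dm hS t i) (fm S t (i + 1)) :=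
  exactA₁ k (S.map (DCoh.tensorRightMod (Twist.twistProjSpace n k t))) (shortExact_twist k n hS t) i (i + 1) rfl

include hS e in
/-- `H^q(B(t)) = 0` for `q ≥ 2`, `t ≥ m - q`. -/
theorem van_two (h₂ : Coh.IsCoh S.X₂) {m : ℤ}
    (hC : ∀ q : ℕ, 1 ≤ q → ∀ t : ℤ, m - q ≤ t → Subsingleton (H k n S.X₃ t q))
    (q : ℕ) (hq : 2 ≤ q) (t : ℤ) (ht : m - q ≤ t) : Subsingleton (H k n S.X₂ t q) := by
  obtain ⟨r₀, hr⟩ := Fga.MumInputs.serre k n S.X₂ h₂
  obtain ⟨p, rfl⟩ : ∃ p, q = p + 1 := ⟨q - 1, by omega⟩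
  have key : ∀ j : ℕ, ∀ t : ℤ, m - ((p + 1 : ℕ) : ℤ) ≤ t → r₀ ≤ t + j → Subsingleton (H k n S.X₂ t (p + 1)) := by
    intro j
    induction j with
    | zero =>
      intro t _ h2
      exact hr t (by simpa using h2) (p + 1) (by omega)
    | succ j ih =>
      intro t h1 h2
      have h3 := ih (t + 1) (by omega) (by push_cast at h2 ⊢; omega)
      have h4 : Subsingleton (H k n S.X₃ (t + 1) p) := hC p (by omega) (t + 1) (by push_cast at h1 ⊢; omega)
      obtain ⟨e'⟩ := nonempty_equivH e (t + 1) (p + 1)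
      rw [add_sub_cancel_right] at e'
      have h5 : Subsingleton (H k n S.X₁ (t + 1) (p + 1)) := by
        refine subsingleton_of_forall_eq 0 fun x => ?_
        obtain ⟨y, rfl⟩ := (exact_df hS (t + 1) p x).mp (Subsingleton.elim _ _)
        rw [Subsingleton.elim y 0, map_zero]
      exact e'.symm.toEquiv.subsingleton
  exact key (r₀ - t).toNat t ht (by have := Int.self_le_toNat (r₀ - t); omega)

include hS e in
/-- `h^1(B(t)) ≤ h^1(B(t - 1))` for `t ≥ m - 1`. -/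
theorem h1_le (h₂ : Coh.IsCoh S.X₂) {m : ℤ}
    (hC : ∀ q : ℕ, 1 ≤ q → ∀ t : ℤ, m - q ≤ t → Subsingleton (H k n S.X₃ t q)) (t : ℤ) (ht : m - 1 ≤ t) :
    Module.finrank k (H k n S.X₂ t 1) ≤ Module.finrank k (H k n S.X₂ (t - 1) 1) := by
  obtain ⟨e'⟩ := nonempty_equivH e t 1
  rw [← e'.finrank_eq]
  have h1 : Subsingleton (H k n S.X₃ t 1) := hC 1 le_rfl t (by push_cast; exact ht)
  have hfin := finite_H k n h₂ (t - 1) 1
  have : Module.Finite k (H k n S.X₁ t 1) := Module.Finite.equiv e'.symm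
  refine LinearMap.finrank_le_finrank_of_surjective (f := fm S t 1) fun y => ?_
  exact (exact_fg hS t 1 y).mp (Subsingleton.elim _ _)

/-- `f(t) ⊗ X_i = X_i ∘ f(t)`. -/
theorem map_mulVar {B C : (CohB1.ProjSpace n k).Modules} (g : B ⟶ C) (i : Fin (n + 1)) (t : ℤ) :
    (grF B).x i t ≫ (DCoh.tensorRightMod (Twist.twistProjSpace n k (t + 1))).map g =
      (DCoh.tensorRightMod (Twist.twistProjSpace n k t)).map g ≫ (grF C).x i t :=
  (DCoh.tensorBi.map g).naturality (mulVar n k i t)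

theorem isMRegular_ge {C : (CohB1.ProjSpace n k).Modules} (h₃ : Coh.IsCoh C) {m : ℤ}
    (hC : Curv2.IsMRegular k n C m) {t : ℤ} (ht : m ≤ t) : Curv2.IsMRegular k n C t := by
  induction t, ht using Int.leInduction with
  | base => exact hC
  | succ a _ ih => exact S1642.result k n C h₃ a ih

/-- Surjectivity of `H^0(B(t)) → H^0(C(t))` persists. -/
theorem surj_succ {m : ℤ} (h₃ : Coh.IsCoh S.X₃) (hC : Curv2.IsMRegular k n S.X₃ m) (t : ℤ) (ht : m ≤ t)
    (h : Function.Surjective (gm S t 0)) : Function.Surjective (gm S (t + 1) 0) := by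
  have hreg : Curv2.IsMRegular k n S.X₃ t := isMRegular_ge h₃ hC ht
  intro y
  obtain ⟨s, hs⟩ := VarietyB.RegGen.exists_sum_H0 h₃.1 hreg y
  choose b hb using fun i => h (s i)
  let xb : Fin (n + 1) → H k n S.X₂ (t + 1) 0 := fun i => mapA k (tmap S.X₂ (mulVar n k i t)) 0 (b i)
  have hxb : ∀ i, gm S (t + 1) 0 (xb i) = mapA k (tmap S.X₃ (mulVar n k i t)) 0 (s i) := by
    intro i
    let g₀ : CohB1.tensorMod S.X₂ (Twist.twistProjSpace n k t) ⟶ CohB1.tensorMod S.X₃ (Twist.twistProjSpace n k t) :=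
      (DCoh.tensorRightMod (Twist.twistProjSpace n k t)).map S.g
    let g₁ : CohB1.tensorMod S.X₂ (Twist.twistProjSpace n k (t + 1)) ⟶
        CohB1.tensorMod S.X₃ (Twist.twistProjSpace n k (t + 1)) :=
      (DCoh.tensorRightMod (Twist.twistProjSpace n k (t + 1))).map S.g
    have h2 : tmap S.X₂ (mulVar n k i t) ≫ g₁ = g₀ ≫ tmap S.X₃ (mulVar n k i t) := map_mulVar S.g i t
    have h3 := LinearMap.congr_fun (mapA_comp k (tmap S.X₂ (mulVar n k i t)) g₁ 0) (b i)
    have h4 := LinearMap.congr_fun (mapA_comp k g₀ (tmap S.X₃ (mulVar n k i t)) 0) (b i)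
    refine Eq.trans h3.symm ((congrArg (fun φ => mapA k φ 0 (b i)) h2).trans (h4.trans ?_))
    exact congrArg (mapA k (tmap S.X₃ (mulVar n k i t)) 0) (hb i)
  refine ⟨∑ i, xb i, ?_⟩
  refine (map_sum (gm S (t + 1) 0) xb Finset.univ).trans (Eq.trans ?_ hs)
  exact Finset.sum_congr rfl fun i _ => hxb i

theorem surj_add {m : ℤ} (h₃ : Coh.IsCoh S.X₃) (hC : Curv2.IsMRegular k n S.X₃ m) (t : ℤ) (ht : m ≤ t)
    (h : Function.Surjective (gm S t 0)) (t' : ℤ) (ht' : t ≤ t') : Function.Surjective (gm S t' 0) := by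
  induction t', ht' using Int.leInduction with
  | base => exact h
  | succ a ha ih => exact surj_succ h₃ hC a (ht.trans ha) ih

include hS e in
/-- If `H^0(B(t)) → H^0(C(t))` is surjective for some `t ≥ m`, then `H^1(B(t - 1)) = 0`. -/
theorem van_one_of_surj (h₂ : Coh.IsCoh S.X₂) {m : ℤ} (h₃ : Coh.IsCoh S.X₃) (hC : Curv2.IsMRegular k n S.X₃ m)
    (t : ℤ) (ht : m ≤ t) (h : Function.Surjective (gm S t 0)) : Subsingleton (H k n S.X₂ (t - 1) 1) := by
  obtain ⟨r₀, hr⟩ := Fga.MumInputs.serre k n S.X₂ h₂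
  have key : ∀ j : ℕ, ∀ t : ℤ, m ≤ t → Function.Surjective (gm S t 0) → r₀ ≤ t - 1 + j →
      Subsingleton (H k n S.X₂ (t - 1) 1) := by
    intro j
    induction j with
    | zero =>
      intro t _ _ h2
      exact hr (t - 1) (by simpa using h2) 1 le_rfl
    | succ j ih =>
      intro t h1 h2 h3
      have h4 := ih (t + 1) (by omega) (surj_succ h₃ hC t h1 h2) (by push_cast at h3 ⊢; omega)
      rw [add_sub_cancel_right] at h4
      obtain ⟨e'⟩ := nonempty_equivH e t 1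
      have h5 : Subsingleton (H k n S.X₁ t 1) := by
        refine subsingleton_of_forall_eq 0 fun x => ?_
        obtain ⟨y, rfl⟩ := (exact_df hS t 0 x).mp (Subsingleton.elim _ _)
        obtain ⟨z, rfl⟩ := h2 y
        exact (exact_gd hS t 0 _).mpr ⟨z, rfl⟩
      exact e'.symm.toEquiv.subsingleton
  exact key (r₀ - (t - 1)).toNat t ht h (by have := Int.self_le_toNat (r₀ - (t - 1)); omega)

include hS e in
/-- For `t ≥ m`: `h^1(B(t)) < h^1(B(t - 1))` or `H^1(B(t - 1)) = 0`. -/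
theorem h1_drop (h₂ : Coh.IsCoh S.X₂) {m : ℤ} (h₃ : Coh.IsCoh S.X₃) (hC : Curv2.IsMRegular k n S.X₃ m)
    (t : ℤ) (ht : m ≤ t) :
    Module.finrank k (H k n S.X₂ t 1) < Module.finrank k (H k n S.X₂ (t - 1) 1) ∨
      Subsingleton (H k n S.X₂ (t - 1) 1) := by
  by_cases h : Function.Surjective (gm S t 0)
  · exact Or.inr (van_one_of_surj hS e h₂ h₃ hC t ht h)
  refine Or.inl ?_
  obtain ⟨e'⟩ := nonempty_equivH e t 1
  rw [← e'.finrank_eq]
  have h1 : Subsingleton (H k n S.X₃ t 1) :=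
    S1642.subsingleton_of_isMRegular h₃.1 (isMRegular_ge h₃ hC ht) 1 le_rfl |> fun h => by
      have := S1642.subsingleton_of_isMRegular h₃.1 (isMRegular_ge h₃ hC (ht.trans (by omega : t ≤ t + 1))) 1 le_rfl
      rwa [show t + 1 - ((1 : ℕ) : ℤ) = t by push_cast; ring] at this
  have hfin := finite_H k n h₂ (t - 1) 1
  have : Module.Finite k (H k n S.X₁ t 1) := Module.Finite.equiv e'.symm
  have hsurj : Function.Surjective (fm S t 1) := fun y =>
    (exact_fg hS t 1 y).mp (Subsingleton.elim _ _)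
  have hni : ¬ Function.Injective (fm S t 1) := by
    intro hinj
    apply h
    intro y
    refine (exact_gd hS t 0 y).mp ?_
    apply hinj
    rw [map_zero]
    exact (exact_df hS t 0 _).mpr ⟨y, rfl⟩
  have hr := LinearMap.finrank_range_add_finrank_ker (fm S t 1)
  rw [LinearMap.range_eq_top.mpr hsurj, finrank_top] at hr
  have hk : 0 < Module.finrank k (LinearMap.ker (fm S t 1)) := by
    rw [Module.finrank_pos_iff]
    by_contra hc
    rw [Submodule.nontrivial_iff_ne_bot, not_not] at hc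
    exact hni (LinearMap.ker_eq_bot.mp hc)
  omega

include hS e in
theorem h1_add (h₂ : Coh.IsCoh S.X₂) {m : ℤ} (h₃ : Coh.IsCoh S.X₃) (hC : Curv2.IsMRegular k n S.X₃ m) (j : ℕ) :
    Module.finrank k (H k n S.X₂ (m - 1 + j) 1) ≤ Module.finrank k (H k n S.X₂ (m - 1) 1) - j := by
  induction j with
  | zero =>
    have h0 : m - 1 + ((0 : ℕ) : ℤ) = m - 1 := by simp
    rw [h0, Nat.sub_zero]
  | succ j ih =>
    have hfin := finite_H k n h₂ (m - 1 + j) 1
    have e1 : m - 1 + ((j + 1 : ℕ) : ℤ) - 1 = m - 1 + j := by push_cast; ring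
    rcases h1_drop hS e h₂ h₃ hC (m - 1 + ((j + 1 : ℕ) : ℤ)) (by push_cast; omega) with h1 | h1
    · rw [e1] at h1
      omega
    · have h2 := h1_le hS e h₂ (m := m) (fun q hq t ht => by
        have := S1642.subsingleton_of_isMRegular h₃.1 (isMRegular_ge h₃ hC (t := t + q) (by omega)) q hq
        rwa [add_sub_cancel_right] at this) (m - 1 + ((j + 1 : ℕ) : ℤ)) (by push_cast; omega)
      rw [e1] at h1 h2
      have h3 : Module.finrank k (H k n S.X₂ (m - 1 + j) 1) = 0 := Module.finrank_zero_of_subsingleton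
      rw [h3] at h2
      omega

include hS e in
/-- `H^1(B(t)) = 0` for `t ≥ m - 1 + h^1(B(m - 1))`. -/
theorem van_one (h₂ : Coh.IsCoh S.X₂) {m : ℤ} (h₃ : Coh.IsCoh S.X₃) (hC : Curv2.IsMRegular k n S.X₃ m) (t : ℤ)
    (ht : m - 1 + (Module.finrank k (H k n S.X₂ (m - 1) 1) : ℤ) ≤ t) : Subsingleton (H k n S.X₂ t 1) := by
  obtain ⟨j, hj⟩ : ∃ j : ℕ, t = m - 1 + j := ⟨(t - (m - 1)).toNat, by omega⟩
  subst hj
  have h1 := h1_add hS e h₂ h₃ hC j
  have hfin := finite_H k n h₂ (m - 1 + j) 1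
  have h2 : Module.finrank k (H k n S.X₂ (m - 1 + j) 1) = 0 := by omega
  exact (Module.finrank_zero_iff (R := k)).mp h2

end

end K244.RegSeq
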