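import Groth.Agent.Pic13.K244.PushInj
import Groth.Agent.Pic13.H960.NumDescent
import Groth.Agent.CohqB.ProjBC
import Groth.Agent.Fga.IntegralSub
import Groth.Agent.S0025
import Groth.Agent.S2422
import Groth.Agent.S2280
import Groth.Agent.S11136

/-!
# Projective models of normal proper schemes, and reduction of torsion statements to projective schemes

* `exists_model`: `X` integral, normal, proper over a field `k`: there is `f : Z ⟶ X` with `Z` closed in `P^n_k` and
  `O_X → f_* O_Z` an isomorphism.
* `exists_pow_of_components`: a class on a Noetherian scheme with integral connected components is torsion if its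
  restrictions to the (open) connected components are.
-/

set_option autoImplicit false
universe u
open CategoryTheory CategoryTheory.Limits AlgebraicGeometry Opposite TopologicalSpace

namespace K244.TorsNormal

open Groth.Agent Groth.Agent.Grpsch.PicGrp

theorem isIso_stalkMap_of_isIso {X Y : Scheme.{u}} (f : X ⟶ Y) [IsIso f] (x : X) : IsIso (f.stalkMap x) :=
  inferInstance

theorem isIso_stalkMap_of_restrict {X Y : Scheme.{u}} (f : X ⟶ Y) (U : Y.Opens) (h : IsIso (f ∣_ U)) (x : X)
    (hx : x ∈ f ⁻¹ᵁ U) : IsIso (f.stalkMap x) := by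
  have e := morphismRestrictStalkMap f U ⟨x, hx⟩
  exact ((MorphismProperty.isomorphisms CommRingCat.{u}).arrow_mk_iso_iff e).mp
    (isIso_stalkMap_of_isIso (f ∣_ U) _)

theorem exists_model (k : Type u) [Field k] (X : Scheme.{u}) [X.Over (Spec (CommRingCat.of k))]
    [IsProper (X ↘ Spec (CommRingCat.of k))] [IsIntegral X] (hX : Pi1.IsNormalScheme X) :
    ∃ (n : ℕ) (Z : Scheme.{u}) (_ : Z.Over (Spec (CommRingCat.of k))) (f : Z ⟶ X) (j : Z ⟶ CohB1.ProjSpace n k),
      IsClosedImmersion j ∧ j ≫ CohB1.ProjSpace.toSpec n k = Z ↘ Spec (CommRingCat.of k) ∧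
      f ≫ (X ↘ Spec (CommRingCat.of k)) = Z ↘ Spec (CommRingCat.of k) ∧ ∀ V : X.Opens, IsIso (f.app V) := by
  obtain ⟨n, X', π, j, hj, hjt, hπ, hπs, U, hU, hiso⟩ := S0025.result (X ↘ Spec (CommRingCat.of k))
  have hp : IsProper (π ≫ (X ↘ Spec (CommRingCat.of k))) := inferInstance
  have hjp : IsProper (j ≫ CohB1.ProjSpaceOver.toBase n (Spec (CommRingCat.of k))) := by rw [hjt]; infer_instance
  have hsep : IsSeparated (CohB1.ProjSpaceOver.toBase n (Spec (CommRingCat.of k))) := inferInstance
  have hjc : IsClosedImmersion j := by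
    have : IsProper j := IsProper.of_comp j (CohB1.ProjSpaceOver.toBase n (Spec (CommRingCat.of k)))
    exact IsClosedImmersion.of_isPreimmersion j j.isClosedMap.isClosed_range
  have hLN : IsLocallyNoetherian X := LocallyOfFiniteType.isLocallyNoetherian (X ↘ (Spec (CommRingCat.of k)))
  -- a point of `X'` over the generic point of `X`
  obtain ⟨ξ', hξ'⟩ := hπs.surj (genericPoint X)
  obtain ⟨Z, i, hi, hZ, hgen, hrange⟩ := Fga.IntegralSub.exists_integral_closed ξ'
  let hZo : Z.Over (Spec (CommRingCat.of k)) := ⟨i ≫ π ≫ (X ↘ Spec (CommRingCat.of k))⟩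
  have hZt : Z ↘ Spec (CommRingCat.of k) = i ≫ π ≫ (X ↘ Spec (CommRingCat.of k)) := rfl
  have hZp : IsProper (Z ↘ Spec (CommRingCat.of k)) := by rw [hZt]; infer_instance
  have hLNZ : IsLocallyNoetherian Z := LocallyOfFiniteType.isLocallyNoetherian (Z ↘ (Spec (CommRingCat.of k)))
  have hfgen : (i ≫ π).base (genericPoint Z) = genericPoint X := by
    rw [Scheme.Hom.comp_apply, hgen, hξ']
  refine ⟨n, Z, hZo, i ≫ π, i ≫ j ≫ (CohqB.ProjBC.projSpaceOverIso n k).hom, inferInstance, ?_, ?_, ?_⟩
  · rw [Category.assoc, Category.assoc, CohqB.ProjBC.projSpaceOverIso_hom_toSpec, hjt]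
    exact hZt.symm
  · rw [Category.assoc]
    exact hZt.symm
  · refine S2422.result hX (i ≫ π) (hfgen ▸ specializes_rfl) ?_
    intro x _
    have hξU : genericPoint X ∈ U := by
      have hne : (U : Set X).Nonempty := hU.nonempty
      exact ((genericPoint_spec X).mem_open_set_iff U.isOpen).mpr (by simpa using hne)
    have hiU : i (genericPoint Z) ∈ π ⁻¹ᵁ U := by
      change π (i (genericPoint Z)) ∈ U
      rw [hgen, hξ']
      exact hξU
    have h0 : IsIso (π.stalkMap (i (genericPoint Z))) := by
      exact isIso_stalkMap_of_restrict π U hiso _ hiU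
    have h1 : Function.Surjective ((i ≫ π).stalkMap (genericPoint Z)).hom := by
      rw [Scheme.Hom.stalkMap_comp]
      have h2 : Function.Surjective (π.stalkMap (i (genericPoint Z))).hom :=
        (ConcreteCategory.bijective_of_isIso (π.stalkMap (i (genericPoint Z)))).2
      have h3 : Function.Surjective (i.stalkMap (genericPoint Z)).hom := i.stalkMap_surjective _
      exact h3.comp h2
    have hsp : (i ≫ π).base (genericPoint Z) ⤳ genericPoint X := hfgen ▸ specializes_rfl
    have h4 : IsIso (X.presheaf.stalkSpecializes hsp) :=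
      inferInstanceAs (IsIso (X.presheaf.stalkCongr (.of_eq hfgen.symm)).hom)
    have h5 : Function.Surjective (X.presheaf.stalkSpecializes hsp).hom :=
      (ConcreteCategory.bijective_of_isIso (X.presheaf.stalkSpecializes hsp)).2
    exact (h1.comp h5) x

/-- A class with torsion restrictions to the connected components is torsion. -/
theorem exists_pow_of_components {X : Scheme.{u}} [AlgebraicGeometry.IsNoetherian X] (c : Pic X)
    (h : ∀ U : X.Opens, ConnectedSpace U → IsClosed (U : Set X) → ∃ d : ℕ, 0 < d ∧ pull U.ι (c ^ d) = 1) :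
    ∃ d : ℕ, 0 < d ∧ c ^ d = 1 := by
  classical
  let U : ConnectedComponents X → X.Opens := fun z => ⟨ConnectedComponents.mk ⁻¹' {z}, by
    obtain ⟨x, rfl⟩ := ConnectedComponents.surjective_coe z
    rw [connectedComponents_preimage_singleton]
    exact S11136.isOpen_cc x⟩
  have hU : ⨆ z, U z = ⊤ := by
    rw [eq_top_iff]
    intro x _
    exact Opens.mem_iSup.mpr ⟨ConnectedComponents.mk x, rfl⟩
  have hd : ∀ z w, z ≠ w → U z ⊓ U w = ⊥ := by
    intro z w hzw
    rw [eq_bot_iff]
    rintro x ⟨h1, h2⟩
    exact hzw (h1.symm.trans h2)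
  have hfin : Finite (ConnectedComponents X) := by
    have hc : CompactSpace X := inferInstance
    obtain ⟨t, ht⟩ := hc.isCompact_univ.elim_finite_subcover (fun z => (U z : Set X)) (fun z => (U z).isOpen) (by
      intro x _
      exact Set.mem_iUnion.mpr ⟨ConnectedComponents.mk x, rfl⟩)
    refine Set.finite_univ_iff.mp ((t.finite_toSet).subset ?_)
    intro z _
    obtain ⟨x, rfl⟩ := ConnectedComponents.surjective_coe z
    obtain ⟨w, hw⟩ := Set.mem_iUnion.mp (ht (Set.mem_univ x))
    obtain ⟨hw1, hw2⟩ := Set.mem_iUnion.mp hw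
    have h3 : ConnectedComponents.mk x = w := hw2
    rw [h3]
    exact hw1
  have : Fintype (ConnectedComponents X) := Fintype.ofFinite _
  have hconn : ∀ z, ConnectedSpace (U z) := by
    intro z
    obtain ⟨x, rfl⟩ := ConnectedComponents.surjective_coe z
    have h1 : (U (ConnectedComponents.mk x) : Set X) = connectedComponent x := connectedComponents_preimage_singleton
    have h2 : _root_.IsConnected (U (ConnectedComponents.mk x) : Set X) := by
      rw [h1]; exact isConnected_connectedComponent
    exact isConnected_iff_connectedSpace.mp h2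
  have hclosed : ∀ z, IsClosed (U z : Set X) := by
    intro z
    obtain ⟨x, rfl⟩ := ConnectedComponents.surjective_coe z
    have h1 : (U (ConnectedComponents.mk x) : Set X) = connectedComponent x := connectedComponents_preimage_singleton
    rw [h1]
    exact isClosed_connectedComponent
  choose d hd0 hd1 using fun z => h (U z) (hconn z) (hclosed z)
  refine ⟨∏ z, d z, Finset.prod_pos fun z _ => hd0 z, ?_⟩
  refine PushInj.eq_one_of_disjoint U hU hd _ fun z => ?_
  obtain ⟨m, hm⟩ := Finset.dvd_prod_of_mem d (Finset.mem_univ z)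
  rw [hm, pow_mul, map_pow, hd1 z, one_pow]



end K244.TorsNormal
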