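import Groth.Agent.Pic13.K244.TorsProj
import Groth.Agent.Pic13.K244.TorsNormal

/-!
# Numerically trivial invertible modules on normal proper schemes over algebraic closures of finite fields are torsion
-/

set_option autoImplicit false
universe u
open CategoryTheory CategoryTheory.Limits AlgebraicGeometry Opposite TopologicalSpace

namespace K244.TorsMain

open Groth.Agent Groth.Agent.Grpsch.PicGrp

theorem isNormalScheme_of_isOpenImmersion {X Y : Scheme.{u}} (f : X ⟶ Y) [IsOpenImmersion f]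
    (hY : Pi1.IsNormalScheme Y) : Pi1.IsNormalScheme X := by
  intro x
  obtain ⟨h1, h2⟩ := hY (f x)
  let e : Y.presheaf.stalk (f x) ≃+* X.presheaf.stalk x := (asIso (f.stalkMap x)).commRingCatIsoToRingEquiv
  have h3 : IsDomain (X.presheaf.stalk x) := e.symm.toMulEquiv.isDomain _
  exact ⟨h3, IsIntegrallyClosed.of_equiv e⟩

theorem exists_tensorPow_iso (p : ℕ) [Fact (Nat.Prime p)] (k : Type u) [Field k] [IsAlgClosed k] [CharP k p]
    (halg : ∀ x : k, ∃ n : ℕ, 0 < n ∧ x ^ (p ^ n) = x)
    (X : Scheme.{u}) [X.Over (Spec (CommRingCat.of k))] [IsProper (X ↘ Spec (CommRingCat.of k))]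
    (hX : Pi1.IsNormalScheme X)
    (L : X.Modules) (hL : PicF.IsInvertible L) (hnum : _root_.Pic13.IsNumEquivZero k X L) :
    ∃ d : ℕ, 0 < d ∧ Nonempty (CohB1.tensorPow L d ≅ Coh.structureModule X) := by
  have hLN : IsLocallyNoetherian X := LocallyOfFiniteType.isLocallyNoetherian (X ↘ (Spec (CommRingCat.of k)))
  have hc : CompactSpace X := (quasiCompact_iff_compactSpace (X ↘ (Spec (CommRingCat.of k)))).mp inferInstance
  have hN : AlgebraicGeometry.IsNoetherian X := {}
  obtain ⟨d, hd, h⟩ := TorsNormal.exists_pow_of_components (mk L hL) (fun U hU hUc => by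
    have hcl : IsClosedImmersion U.ι := IsClosedImmersion.of_isPreimmersion U.ι (by
      rw [Scheme.Opens.range_ι]; exact hUc)
    let _ : (U : Scheme.{u}).Over (Spec (CommRingCat.of k)) := ⟨U.ι ≫ (X ↘ Spec (CommRingCat.of k))⟩
    have hUo : U.ι ≫ (X ↘ Spec (CommRingCat.of k)) = (U : Scheme.{u}) ↘ Spec (CommRingCat.of k) := rfl
    have hUp : IsProper ((U : Scheme.{u}) ↘ Spec (CommRingCat.of k)) := by rw [← hUo]; infer_instance
    have hUn := isNormalScheme_of_isOpenImmersion U.ι hX
    have hUi : IsIntegral (U : Scheme.{u}) :=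
      (S2280.result (U : Scheme.{u})).2.mpr ⟨hU, fun x => (hUn x).1⟩
    obtain ⟨n, Z, hZ, f, j, hj, hjk, hf, hfiso⟩ := TorsNormal.exists_model k (U : Scheme.{u}) hUn
    have hPk : IsProper (CohB1.ProjSpace.toSpec n k) := VarietyB.EulerBinom.isProper_over k n
    have hZp : IsProper (Z ↘ Spec (CommRingCat.of k)) := by rw [← hjk]; infer_instance
    have hnum' : _root_.Pic13.IsNumEquivZero k Z ((Scheme.Modules.pullback (f ≫ U.ι)).obj L) :=
      Pic13.H960.NumDescent.isNumEquivZero_pullback k (f ≫ U.ι) (by rw [Category.assoc, hUo, hf]) hL hnum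
    obtain ⟨d, hd, ⟨e⟩⟩ := TorsProj.exists_tensorPow_iso p k halg j hjk _
      (Fdesc.LocGen.isInvertible_pullback (f ≫ U.ι) hL) hnum'
    refine ⟨d, hd, PushInj.eq_one_of_pull f hfiso _ ?_⟩
    rw [← pull_comp, map_pow, pull_mk, ← mk_tensorPow, mk_eq_one_iff]
    exact ⟨e⟩)
  refine ⟨d, hd, ?_⟩
  rw [← mk_eq_one_iff (Fdesc.LocGen.isInvertible_tensorPow hL d), mk_tensorPow hL]
  exact h

/-- The algebraic closure of an algebraic extension of `F_p`. -/
theorem halg_algebraicClosure (p : ℕ) [Fact (Nat.Prime p)] (k : Type u) [Field k] [CharP k p]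
    (halg : ∀ x : k, ∃ n : ℕ, 0 < n ∧ x ^ (p ^ n) = x) :
    ∀ x : AlgebraicClosure k, ∃ n : ℕ, 0 < n ∧ x ^ (p ^ n) = x := by
  intro x
  let _ : Algebra (ZMod p) k := ZMod.algebra k p
  have h1 : Algebra.IsAlgebraic (ZMod p) k := TorsProj.isAlgebraic_of_pow p halg
  have h2 : IsScalarTower (ZMod p) k (AlgebraicClosure k) := inferInstance
  have h3 : Algebra.IsAlgebraic (ZMod p) (AlgebraicClosure k) := Algebra.IsAlgebraic.trans (ZMod p) k (AlgebraicClosure k)
  have h4 : IsIntegral (ZMod p) x := (Algebra.IsAlgebraic.isAlgebraic (R := ZMod p) x).isIntegral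
  let F := IntermediateField.adjoin (ZMod p) {x}
  have h5 : FiniteDimensional (ZMod p) F := IntermediateField.adjoin.finiteDimensional h4
  have h6 : Finite F := Module.finite_of_finite (ZMod p)
  let _ : Fintype F := Fintype.ofFinite F
  have h7 : CharP F p := charP_of_injective_algebraMap (algebraMap (ZMod p) F).injective p
  obtain ⟨n, hp, hn⟩ := FiniteField.card F p
  refine ⟨n, n.2, ?_⟩
  have h8 := FiniteField.pow_card (⟨x, IntermediateField.mem_adjoin_simple_self (ZMod p) x⟩ : F)
  rw [hn] at h8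
  exact congrArg Subtype.val h8

end K244.TorsMain
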